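import Groth.Agent.S4101
import Groth.Prelude.Def_SGA3x

/-!
Loci of points fixed by a group whose coordinate ring becomes projective.
-/

set_option autoImplicit false
set_option linter.style.haveILetI false
set_option backward.isDefEq.respectTransparency false
universe u
open CategoryTheory CategoryTheory.Limits MonoidalCategory CartesianMonoidalCategory AlgebraicGeometry
open scoped TensorProduct

namespace Groth.Agent.H21Fix

theorem projective_of_ringEquiv {R S M : Type u} [CommRing R] [CommRing S] [AddCommGroup M] [Module R M] [Module S M]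
    (σ : R ≃+* S) (hσ : ∀ (r : R) (m : M), σ r • m = r • m) [Module.Projective R M] : Module.Projective S M := by
  obtain ⟨s, hs⟩ := Module.projective_def'.mp ‹Module.Projective R M›
  refine Module.projective_def'.mpr
    ⟨{ toFun := fun m => (s m).mapRange σ σ.map_zero
       map_add' := fun x y => by rw [map_add]; exact Finsupp.mapRange_add σ.map_add _ _
       map_smul' := fun c x => by
        obtain ⟨r, rfl⟩ := σ.surjective c
        ext i
        simp [hσ] }, ?_⟩
  ext m
  simp only [LinearMap.comp_apply, LinearMap.coe_mk, AddHom.coe_mk, LinearMap.id_apply]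
  refine Eq.trans ?_ (LinearMap.congr_fun hs m)
  rw [LinearMap.comp_apply, Finsupp.linearCombination_apply, Finsupp.linearCombination_apply,
    Finsupp.sum_mapRange_index (h := fun i a => a • id i) (fun _ => zero_smul S _)]
  exact Finsupp.sum_congr fun i _ => hσ _ _

theorem projective_top {P : Scheme.{u}} {B C : Type u} [CommRing B] [CommRing C] [Algebra B C]
    (f : P ⟶ Spec (CommRingCat.of B)) (E : P ≅ Spec (CommRingCat.of C))
    (hE : E.hom ≫ Spec.map (CommRingCat.ofHom (algebraMap B C)) = f) [Module.Projective B C] :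
    letI := ((⊤ : P.Opens).ι ≫ f).appTop.hom.toAlgebra
    Module.Projective Γ(Spec (CommRingCat.of B), ⊤) Γ((⊤ : P.Opens), ⊤) := by
  letI alg := ((⊤ : P.Opens).ι ≫ f).appTop.hom.toAlgebra
  let m : (⊤ : P.Opens).toScheme ⟶ Spec (CommRingCat.of C) := (⊤ : P.Opens).ι ≫ E.hom
  haveI : IsIso (⊤ : P.Opens).ι :=
    ⟨(Scheme.topIso _).inv, (Scheme.topIso _).hom_inv_id, (Scheme.topIso _).inv_hom_id⟩
  haveI : IsIso m := IsIso.comp_isIso
  let e : C ≃+* Γ((⊤ : P.Opens), ⊤) :=
    ((Scheme.ΓSpecIso (CommRingCat.of C)).symm ≪≫ asIso m.appTop).commRingCatIsoToRingEquiv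
  let ρ : B ≃+* Γ(Spec (CommRingCat.of B), ⊤) := (Scheme.ΓSpecIso (CommRingCat.of B)).symm.commRingCatIsoToRingEquiv
  letI : Module B Γ((⊤ : P.Opens), ⊤) := Module.compHom _ ρ.toRingHom
  have he : ∀ b : B, e (algebraMap B C b) = ((⊤ : P.Opens).ι ≫ f).appTop (ρ b) := fun b => by
    show (CommRingCat.ofHom (algebraMap B C) ≫ (Scheme.ΓSpecIso (CommRingCat.of C)).inv ≫ m.appTop) b =
      ((Scheme.ΓSpecIso (CommRingCat.of B)).inv ≫ ((⊤ : P.Opens).ι ≫ f).appTop) b
    rw [← hE, ← Category.assoc ((⊤ : P.Opens).ι), Scheme.Hom.comp_appTop, ← Category.assoc,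
      Scheme.ΓSpecIso_inv_naturality, Category.assoc, Scheme.Hom.comp_appTop, Scheme.Hom.comp_appTop]
  have hsmul : ∀ (b : B) (x : C), e (b • x) = ((⊤ : P.Opens).ι ≫ f).appTop (ρ b) * e x := fun b x => by
    rw [Algebra.smul_def, map_mul, he]
  let eL : C ≃ₗ[B] Γ((⊤ : P.Opens), ⊤) := { e.toAddEquiv with map_smul' := hsmul }
  haveI := Module.Projective.of_equiv eL
  exact projective_of_ringEquiv ρ fun r x => rfl

theorem isEssentiallyFree_snd {k : Type u} [CommRing k] {H : Over (Spec (CommRingCat.of k))}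
    {A : Type u} [CommRing A] [Algebra k A] (eA : H.left ≅ Spec (CommRingCat.of A))
    (heA : eA.hom ≫ Spec.map (CommRingCat.ofHom (algebraMap k A)) = H.hom)
    (k' : Type u) [CommRing k'] [Algebra k k'] [Module.FaithfullyFlat k k'] [Module.Projective k' (k' ⊗[k] A)]
    (Y : Over (Spec (CommRingCat.of k))) :
    SGA3x.IsEssentiallyFree (pullback.snd H.hom Y.hom) := by
  intro y
  obtain ⟨U, hU, hyU, -⟩ := exists_isAffineOpen_mem_and_subset (U := ⊤) (x := y) (Set.mem_univ _)
  let B : Type u := Γ(Y.left, U)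
  obtain ⟨β, hβ⟩ := Spec.map_surjective (hU.fromSpec ≫ Y.hom)
  letI : Algebra k B := β.hom.toAlgebra
  let B' : Type u := B ⊗[k] k'
  let π : Spec (CommRingCat.of B') ⟶ Spec (CommRingCat.of B) :=
    Spec.map (CommRingCat.ofHom (algebraMap B B'))
  let g : Spec (CommRingCat.of B') ⟶ (U : Scheme.{u}) := π ≫ hU.isoSpec.inv
  haveI : Flat π := (Flat.SpecMap_iff (f := CommRingCat.ofHom (algebraMap B B'))).mpr
    (RingHom.flat_algebraMap_iff.mpr inferInstance)
  haveI : Surjective π := ⟨PrimeSpectrum.comap_surjective_of_faithfullyFlat (A := B) (B := B')⟩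
  refine ⟨U, hyU, hU, Spec (CommRingCat.of B'), inferInstance, g, inferInstance, inferInstance, fun x => ?_⟩
  have hg : (g ≫ U.ι) ≫ Y.hom = Spec.map (CommRingCat.ofHom (algebraMap k B')) := by
    simp only [g, Category.assoc]
    rw [← Category.assoc hU.isoSpec.inv, IsAffineOpen.isoSpec_inv_ι, ← hβ, ← Spec.map_comp]
    congr 1
  let E : pullback (pullback.snd H.hom Y.hom) (g ≫ U.ι) ≅ Spec (CommRingCat.of (B' ⊗[k] A)) :=
    pullbackLeftPullbackSndIso H.hom Y.hom (g ≫ U.ι) ≪≫ pullback.congrHom rfl hg ≪≫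
      asIso (pullback.map H.hom (Spec.map (CommRingCat.ofHom (algebraMap k B')))
        (Spec.map (CommRingCat.ofHom (algebraMap k A))) (Spec.map (CommRingCat.ofHom (algebraMap k B')))
        eA.hom (𝟙 _) (𝟙 _) (by rw [Category.comp_id, heA]) (by simp)) ≪≫
      pullbackSymmetry _ _ ≪≫ pullbackSpecIso k B' A
  have hE : E.hom ≫ Spec.map (CommRingCat.ofHom (algebraMap B' (B' ⊗[k] A))) =
      pullback.snd (pullback.snd H.hom Y.hom) (g ≫ U.ι) := by
    simp only [E, Iso.trans_hom, Category.assoc]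
    rw [show CommRingCat.ofHom (algebraMap B' (B' ⊗[k] A)) =
      CommRingCat.ofHom Algebra.TensorProduct.includeLeftRingHom from rfl, pullbackSpecIso_hom_fst,
      pullbackSymmetry_hom_comp_fst]
    simp
  haveI : Module.Projective B' (B' ⊗[k] A) := by
    letI : Algebra k' B' := Algebra.TensorProduct.rightAlgebra
    haveI : IsScalarTower k k' B' := .of_algebraMap_eq fun r => by
      rw [IsScalarTower.algebraMap_apply k B B', Algebra.TensorProduct.algebraMap_apply]
      exact (Algebra.TensorProduct.tmul_one_eq_one_tmul r)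
    exact Module.Projective.of_equiv (TensorProduct.AlgebraTensorModule.cancelBaseChange k k' B' B' A)
  haveI : IsAffine (pullback (pullback.snd H.hom Y.hom) (g ≫ U.ι)) := .of_isIso E.hom
  exact ⟨⊤, trivial, isAffineOpen_top _, projective_top _ E hE⟩

open MonObj in
theorem exists_equalizer_of_essFree {S : Scheme.{u}} {Y T W : Over S}
    (hf : SGA3x.IsEssentiallyFree (pullback.snd Y.hom T.hom)) [IsSeparated W.hom] (φ ψ : Y ⊗ T ⟶ W) :
    ∃ (Z : Over S) (j : Z ⟶ T), IsClosedImmersion j.left ∧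
      ∀ (X : Over S) (g : X ⟶ T), (∃ z : X ⟶ Z, z ≫ j = g) ↔
        ∀ (X' : Over S) (x : X' ⟶ X) (h : X' ⟶ Y), lift h (x ≫ g) ≫ φ = lift h (x ≫ g) ≫ ψ := by
  let f : (Y ⊗ T).left ⟶ T.left := pullback.snd Y.hom T.hom
  let j₀ := pullback.fst (lift φ ψ).left (pullback.diagonal W.hom)
  obtain ⟨Z, t, ht, hiff, -⟩ := Groth.Agent.S4101.result T.left (Y ⊗ T).left _ f hf j₀
  refine ⟨Over.mk (t ≫ T.hom), Over.homMk t, ht, fun X g => ?_⟩
  have key : (∃ z : X.left ⟶ Z, z ≫ t = g.left) ↔ ∃ z : X ⟶ Over.mk (t ≫ T.hom), z ≫ Over.homMk t = g :=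
    ⟨fun ⟨z, hz⟩ => ⟨Over.homMk z (by change z ≫ t ≫ T.hom = X.hom; rw [← Category.assoc, hz]; exact Over.w g),
      Over.OverMorphism.ext hz⟩, fun ⟨z, hz⟩ => ⟨z.left, congrArg (fun m : X ⟶ T => m.left) hz⟩⟩
  rw [← key, hiff]
  have hd : ∀ {Q : Over S} (a b : Q ⟶ W) (k : Q.left ⟶ W.left),
      k ≫ pullback.diagonal W.hom = (lift a b).left ↔ k = a.left ∧ k = b.left := fun {Q} a b k => by
    have ha : (lift a b).left ≫ pullback.fst W.hom W.hom = a.left := congrArg (fun m : Q ⟶ W => m.left) (lift_fst a b)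
    have hb : (lift a b).left ≫ pullback.snd W.hom W.hom = b.left := congrArg (fun m : Q ⟶ W => m.left) (lift_snd a b)
    refine ⟨fun h => ⟨?_, ?_⟩, fun ⟨h1, h2⟩ => ?_⟩
    · rw [← ha, ← h, Category.assoc, pullback.diagonal_fst, Category.comp_id]
    · rw [← hb, ← h, Category.assoc, pullback.diagonal_snd, Category.comp_id]
    · apply pullback.hom_ext
      · rw [Category.assoc, pullback.diagonal_fst, Category.comp_id]; exact h1.trans ha.symm
      · rw [Category.assoc, pullback.diagonal_snd, Category.comp_id]; exact h2.trans hb.symm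
  constructor
  · intro hi X' x y
    let b : X'.left ⟶ pullback f g.left :=
      pullback.lift (lift y (x ≫ g)).left x.left (congrArg (fun m : X' ⟶ T => m.left) (lift_snd y (x ≫ g)))
    let k := b ≫ inv (pullback.snd j₀ (pullback.fst f g.left)) ≫ pullback.fst j₀ _ ≫
      pullback.snd (lift φ ψ).left (pullback.diagonal W.hom)
    have hk : k ≫ pullback.diagonal W.hom = (lift y (x ≫ g) ≫ lift φ ψ).left := by
      simp only [k, Category.assoc]
      rw [← pullback.condition (f := (lift φ ψ).left), ← Category.assoc (pullback.fst j₀ _),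
        pullback.condition (f := j₀), Category.assoc, IsIso.inv_hom_id_assoc, ← Category.assoc, pullback.lift_fst]
      rfl
    rw [comp_lift] at hk
    obtain ⟨h1, h2⟩ := (hd _ _ k).mp hk
    exact Over.OverMorphism.ext (h1.symm.trans h2)
  · intro h
    let X' : Over S := Over.mk (pullback.snd f g.left ≫ X.hom)
    let x : X' ⟶ X := Over.homMk (pullback.snd f g.left) rfl
    let a' : X' ⟶ Y ⊗ T := Over.homMk (pullback.fst f g.left) (by
      change pullback.fst f g.left ≫ pullback.fst Y.hom T.hom ≫ Y.hom = pullback.snd f g.left ≫ X.hom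
      rw [pullback.condition (f := Y.hom) (g := T.hom), ← Over.w g]
      exact (Category.assoc _ _ _).symm.trans
        ((congrArg (· ≫ T.hom) (pullback.condition (f := f) (g := g.left))).trans (Category.assoc _ _ _)))
    have e : lift (a' ≫ fst Y T) (x ≫ g) = a' := by
      rw [show x ≫ g = a' ≫ snd Y T from Over.OverMorphism.ext (pullback.condition (f := f) (g := g.left)).symm,
        ← comp_lift, lift_fst_snd, Category.comp_id]
    have h0 := h X' x (a' ≫ fst Y T)
    rw [e] at h0
    have hk : (a' ≫ φ).left ≫ pullback.diagonal W.hom = pullback.fst f g.left ≫ (lift φ ψ).left :=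
      ((hd (a' ≫ φ) (a' ≫ ψ) (a' ≫ φ).left).mpr ⟨rfl, congrArg (fun m : X' ⟶ W => m.left) h0⟩).trans
        (congrArg (fun m : X' ⟶ W ⊗ W => m.left) (comp_lift a' φ ψ).symm)
    haveI : IsSplitEpi (pullback.snd j₀ (pullback.fst f g.left)) :=
      IsSplitEpi.mk' ⟨pullback.lift (pullback.lift (pullback.fst f g.left) _ hk.symm) (𝟙 _)
        (by rw [Category.id_comp]; exact pullback.lift_fst _ _ _), pullback.lift_snd _ _ _⟩
    exact isIso_of_mono_of_isSplitEpi _

end Groth.Agent.H21Fix
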