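import Groth.Agent.H21Fix.SmoothLift
import Mathlib.AlgebraicGeometry.Morphisms.Smooth

/-!
Fixed loci of groups with an invariant integral in smooth schemes are smooth.
-/

set_option autoImplicit false
set_option linter.style.haveILetI false
set_option backward.isDefEq.respectTransparency false
set_option maxHeartbeats 1000000
universe u
open CategoryTheory CategoryTheory.Limits MonoidalCategory CartesianMonoidalCategory MonObj GrpObj AlgebraicGeometry
open scoped TensorProduct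

namespace Groth.Agent.H21Fix

variable {R : Type u} [CommRing R]

/-- the chart of an affine open -/
theorem exists_chart {X : Over (Spec (CommRingCat.of R))} {U : X.left.Opens} (hU : IsAffineOpen U) :
    ∃ (_ : Algebra R Γ(X.left, U)) (j : pS R Γ(X.left, U) ⟶ X), j.left = hU.fromSpec := by
  obtain ⟨β, hβ⟩ := Spec.map_surjective (hU.fromSpec ≫ X.hom)
  letI : Algebra R Γ(X.left, U) := β.hom.toAlgebra
  exact ⟨inferInstance, Over.homMk hU.fromSpec hβ.symm, rfl⟩

variable {A : Type u} [CommRing A] [HopfAlgebra R A]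

/-- the property characterising a fixed locus -/
def IsFixedLocus {X Z : Over (Spec (CommRingCat.of R))} (a : AlgGrp.Action (pS R A) X) (z : Z ⟶ X) : Prop :=
  ∀ (T : Over (Spec (CommRingCat.of R))) (x : T ⟶ X), (∃ w : T ⟶ Z, w ≫ z = x) ↔
    ∀ (T' : Over (Spec (CommRingCat.of R))) (t : T' ⟶ T) (h : T' ⟶ pS R A), lift h (t ≫ x) ≫ a.act = t ≫ x

/-- The map on fixed loci induced by a smooth equivariant morphism is smooth when it is locally of finite
presentation. -/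
theorem smooth_fixedLocus (I : Integral R A) {X Y : Over (Spec (CommRingCat.of R))} (a : AlgGrp.Action (pS R A) X)
    (b : AlgGrp.Action (pS R A) Y) (f : X ⟶ Y) [Smooth f.left] (hf : (pS R A ◁ f) ≫ b.act = a.act ≫ f)
    {Z Z' : Over (Spec (CommRingCat.of R))} (z : Z ⟶ X) (z' : Z' ⟶ Y) [IsClosedImmersion z.left]
    [IsClosedImmersion z'.left] (hZ : IsFixedLocus a z) (hZ' : IsFixedLocus b z') (g : Z ⟶ Z') (hg : g ≫ z' = z ≫ f)
    [LocallyOfFinitePresentation g.left] : Smooth g.left := by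
  rw [HasRingHomProperty.iff_exists_appLE (P := @Smooth) (RingHom.Smooth.stableUnderComposition.stableUnderCompositionWithLocalizationAway RingHom.Smooth.holdsForLocalizationAway).left]
  intro p
  obtain ⟨V, hV, hpV, -⟩ := exists_isAffineOpen_mem_and_subset (U := (⊤ : Y.left.Opens))
    (x := f.left (z.left p)) trivial
  obtain ⟨U, hU, hpU, hUV⟩ := exists_isAffineOpen_mem_and_subset (U := f.left ⁻¹ᵁ V) (x := z.left p) hpV
  let W := z.left ⁻¹ᵁ U
  let V' := z'.left ⁻¹ᵁ V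
  have hW : IsAffineOpen W := hU.preimage z.left
  have hV' : IsAffineOpen V' := hV.preimage z'.left
  have hgl : g.left ≫ z'.left = z.left ≫ f.left := congrArg (fun m : Z ⟶ Y => m.left) hg
  have hWV : W ≤ g.left ⁻¹ᵁ V' := by
    intro w hw
    show (g.left ≫ z'.left) w ∈ V
    rw [hgl]
    exact hUV hw
  refine ⟨⟨V', hV'⟩, ⟨W, hW⟩, hpU, hWV, ?_⟩
  obtain ⟨_, j, hj⟩ := exists_chart (X := X) hU
  obtain ⟨_, k, hk⟩ := exists_chart (X := Y) hV
  obtain ⟨_, j₀, hj₀⟩ := exists_chart (X := Z) hW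
  obtain ⟨_, k₀, hk₀⟩ := exists_chart (X := Z') hV'
  haveI : IsOpenImmersion j.left := by rw [hj]; infer_instance
  haveI : IsOpenImmersion k.left := by rw [hk]; infer_instance
  haveI : IsOpenImmersion j₀.left := by rw [hj₀]; infer_instance
  haveI : IsOpenImmersion k₀.left := by rw [hk₀]; infer_instance
  haveI : Mono j := (Over.forget _).mono_of_mono_map (show Mono j.left from inferInstance)
  haveI : Mono k := (Over.forget _).mono_of_mono_map (show Mono k.left from inferInstance)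
  haveI : Mono k₀ := (Over.forget _).mono_of_mono_map (show Mono k₀.left from inferInstance)
  -- the four ring maps
  let mk : ∀ {X₁ X₂ : Over (Spec (CommRingCat.of R))} {U₁ : X₁.left.Opens} {U₂ : X₂.left.Opens}
      [Algebra R Γ(X₁.left, U₁)] [Algebra R Γ(X₂.left, U₂)] (h₁ : IsAffineOpen U₁) (h₂ : IsAffineOpen U₂)
      (j₁ : pS R Γ(X₁.left, U₁) ⟶ X₁) (j₂ : pS R Γ(X₂.left, U₂) ⟶ X₂) (_ : j₁.left = h₁.fromSpec)
      (_ : j₂.left = h₂.fromSpec) (m : X₁ ⟶ X₂) (e : U₁ ≤ m.left ⁻¹ᵁ U₂),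
      ∃ φ : Γ(X₂.left, U₂) →ₐ[R] Γ(X₁.left, U₁), φ.toRingHom = (m.left.appLE U₂ U₁ e).hom ∧ pM φ ≫ j₂ = j₁ ≫ m := by
    intro X₁ X₂ U₁ U₂ _ _ h₁ h₂ j₁ j₂ hj₁ hj₂ m e
    let m' : pS R Γ(X₁.left, U₁) ⟶ pS R Γ(X₂.left, U₂) := Over.homMk (Spec.map (m.left.appLE U₂ U₁ e)) (by
      rw [← Over.w j₂, ← Over.w j₁, hj₁, hj₂, reassoc_of% (IsAffineOpen.SpecMap_appLE_fromSpec m.left h₂ h₁ e),
        Over.w m])
    obtain ⟨φ, hφ⟩ := pM_surjective m'
    refine ⟨φ, congrArg CommRingCat.Hom.hom (Spec.map_injective (congrArg (fun x : pS R _ ⟶ pS R _ => x.left) hφ) :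
      CommRingCat.ofHom φ.toRingHom = m.left.appLE U₂ U₁ e), ?_⟩
    rw [hφ]
    refine Over.OverMorphism.ext ?_
    show Spec.map (m.left.appLE U₂ U₁ e) ≫ j₂.left = j₁.left ≫ m.left
    rw [hj₁, hj₂]
    exact IsAffineOpen.SpecMap_appLE_fromSpec m.left h₂ h₁ e
  obtain ⟨ψ, hψ, hψc⟩ := mk hU hV j k hj hk f hUV
  obtain ⟨ζ, hζ, hζc⟩ := mk hW hU j₀ j hj₀ hj z le_rfl
  obtain ⟨ν, hν, hνc⟩ := mk hV' hV k₀ k hk₀ hk z' le_rfl
  obtain ⟨gam, hgam, hgamc⟩ := mk hW hV' j₀ k₀ hj₀ hk₀ g hWV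
  have hζs : Function.Surjective ζ := by
    show Function.Surjective ζ.toRingHom
    rw [hζ, show z.left.appLE U W le_rfl = z.left.app U from (Scheme.Hom.app_eq_appLE _).symm]
    exact z.left.app_surjective U hU
  have hνs : Function.Surjective ν := by
    show Function.Surjective ν.toRingHom
    rw [hν, show z'.left.appLE V V' le_rfl = z'.left.app V from (Scheme.Hom.app_eq_appLE _).symm]
    exact z'.left.app_surjective V hV
  have hfp : (g.left.appLE V' W hWV).hom.FinitePresentation :=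
    HasRingHomProperty.appLE @LocallyOfFinitePresentation g.left ‹_› ⟨V', hV'⟩ ⟨W, hW⟩ hWV
  have hsm : ψ.toRingHom.Smooth := by
    rw [hψ]; exact HasRingHomProperty.appLE @Smooth f.left ‹_› ⟨V, hV⟩ ⟨U, hU⟩ hUV
  rw [← hgam] at hfp ⊢
  letI alggam : Algebra Γ(Z'.left, V') Γ(Z.left, W) := gam.toRingHom.toAlgebra
  haveI : Algebra.FinitePresentation Γ(Z'.left, V') Γ(Z.left, W) := hfp
  letI algψ : Algebra Γ(Y.left, V) Γ(X.left, U) := ψ.toRingHom.toAlgebra
  haveI : Algebra.Smooth Γ(Y.left, V) Γ(X.left, U) := hsm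
  suffices Algebra.FormallySmooth Γ(Z'.left, V') Γ(Z.left, W) from
    show Algebra.Smooth Γ(Z'.left, V') Γ(Z.left, W) from ⟨inferInstance, inferInstance⟩
  refine Algebra.FormallySmooth.of_comp_surjective fun B _ _ N hN β₀ => ?_
  letI : Algebra R B := Algebra.compHom B (algebraMap R Γ(Z'.left, V'))
  haveI : IsScalarTower R Γ(Z'.left, V') B := .of_algebraMap_eq fun _ => rfl
  haveI : IsScalarTower R Γ(Z'.left, V') Γ(Z.left, W) := .of_algebraMap_eq fun r => (gam.commutes r).symm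
  let etB : Γ(Z'.left, V') →ₐ[R] B := IsScalarTower.toAlgHom R _ B
  letI : Algebra Γ(Y.left, V) B := Algebra.compHom B ν.toRingHom
  haveI : IsScalarTower R Γ(Y.left, V) Γ(X.left, U) := .of_algebraMap_eq fun r => (ψ.commutes r).symm
  haveI : IsScalarTower R Γ(Y.left, V) B := .of_algebraMap_eq fun r => by
    show algebraMap R B r = algebraMap Γ(Z'.left, V') B (ν (algebraMap R _ r))
    rw [ν.commutes]; rfl
  have hgamν : gam.comp ν = ζ.comp ψ := by
    refine pM_injective ((cancel_mono k).mp ?_)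
    rw [pM_comp, pM_comp, Category.assoc, Category.assoc, hνc, hψc, ← Category.assoc (pM gam), hgamc,
      ← Category.assoc (pM ζ), hζc, Category.assoc, Category.assoc, hg]
  have hcommY : ∀ v, β₀ (ζ (ψ v)) = algebraMap Γ(Y.left, V) (B ⧸ N) v := fun v => by
    rw [show ζ (ψ v) = gam (ν v) from (AlgHom.congr_fun hgamν v).symm]
    exact β₀.commutes (ν v)
  let y₀ : Γ(X.left, U) →ₐ[Γ(Y.left, V)] B ⧸ N :=
    { β₀.toRingHom.comp ζ.toRingHom with commutes' := fun v => hcommY v }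
  obtain ⟨yV, hyV⟩ := Algebra.FormallySmooth.comp_surjective Γ(Y.left, V) Γ(X.left, U) N hN y₀
  let y : Γ(X.left, U) →ₐ[R] B := yV.restrictScalars R
  let β₀R : Γ(Z.left, W) →ₐ[R] B ⧸ N := β₀.restrictScalars R
  have hmk : ∀ v, Ideal.Quotient.mk N (y v) = β₀ (ζ v) := fun v => AlgHom.congr_fun hyV v
  have hN0 : ∀ x ∈ N, ∀ y ∈ N, x * y = 0 := fun x hx y hy => by
    rw [← Ideal.mem_bot, ← hN, pow_two]; exact Ideal.mul_mem_mul hx hy
  have hyψ : y.comp ψ = etB.comp ν := AlgHom.ext fun v => yV.commutes v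
  let C := B ⊗[R] A
  let NC : Ideal C := N.map (algebraMap B C)
  let κ : B ⧸ N →ₐ[R] C ⧸ NC := Ideal.quotientMapₐ NC (cst (R := R) (A := A) B) Ideal.le_comap_map
  have hbase : lift (uPt B) (pM (cst B) ≫ (pM y ≫ j) ≫ f) ≫ b.act = pM (cst (A := A) B) ≫ (pM y ≫ j) ≫ f :=
    (hZ' _ ((pM y ≫ j) ≫ f)).mp ⟨pM etB ≫ k₀, by
      rw [Category.assoc, ← hνc, Category.assoc, ← hψc, pM_comp_assoc', pM_comp_assoc', hyψ]⟩ _ _ _
  have hmod : pM (Ideal.Quotient.mkₐ R NC) ≫ lift (uPt B) (pM (cst B) ≫ pM y ≫ j) ≫ a.act =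
      pM (Ideal.Quotient.mkₐ R NC) ≫ pM (cst (A := A) B) ≫ pM y ≫ j := by
    have e : pM (Ideal.Quotient.mkₐ R NC) ≫ pM (cst (A := A) B) ≫ pM y ≫ j = (pM κ ≫ pM β₀R ≫ j₀) ≫ z := by
      simp only [Category.assoc]
      rw [← hζc, pM_comp_assoc' y, pM_comp_assoc', pM_comp_assoc' ζ, pM_comp_assoc' _ κ]
      congr 2
      exact AlgHom.ext fun v => congrArg κ (hmk v)
    rw [comp_lift_act, e]
    have := (hZ _ ((pM κ ≫ pM β₀R ≫ j₀) ≫ z)).mp ⟨_, rfl⟩ _ (𝟙 _) (pM (Ideal.Quotient.mkₐ R NC) ≫ uPt B)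
    simpa only [Category.id_comp] using this
  obtain ⟨y', hy'N, hy'ψ, hy'fix⟩ := exists_fixed_lift I a b f hf j k ψ hψc N hN0 y hmod hbase
  obtain ⟨w, hw⟩ := (hZ _ (pM y' ≫ j)).mpr fun T t h => fixed_of_univ a (pM y' ≫ j) hy'fix t h
  obtain ⟨β, hβ⟩ : ∃ β : Γ(Z.left, W) →ₐ[R] B, pM β ≫ j₀ = w := by
    have hr : Set.range w.left ⊆ Set.range j₀.left := by
      rintro _ ⟨q, rfl⟩
      have h1 : z.left (w.left q) = j.left ((pM y').left q) :=
        congrArg (fun m : pS R B ⟶ X => m.left q) hw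
      rw [hj₀]
      refine (hW.range_fromSpec).ge ?_
      show z.left (w.left q) ∈ U
      rw [h1]
      refine (hU.range_fromSpec).le ?_
      rw [← hj]
      exact ⟨_, rfl⟩
    let m : pS R B ⟶ pS R Γ(Z.left, W) := Over.homMk (IsOpenImmersion.lift j₀.left w.left hr) (by
      rw [← Over.w j₀, IsOpenImmersion.lift_fac_assoc]; exact Over.w w)
    obtain ⟨β, hβ⟩ := pM_surjective m
    exact ⟨β, Over.OverMorphism.ext (by rw [hβ]; exact IsOpenImmersion.lift_fac _ _ _)⟩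
  have hβζ : β.comp ζ = y' := by
    refine pM_injective ((cancel_mono j).mp ?_)
    rw [pM_comp, Category.assoc, hζc, ← Category.assoc, hβ, hw]
  have hbgam : β.comp gam = etB := by
    refine AlgHom.ext fun v => ?_
    obtain ⟨v, rfl⟩ := hνs v
    have h1 : (β.comp gam).comp ν = etB.comp ν := by
      rw [AlgHom.comp_assoc, hgamν, ← AlgHom.comp_assoc, hβζ, hy'ψ, hyψ]
    exact AlgHom.congr_fun h1 v
  refine ⟨{ β.toRingHom with commutes' := fun v => AlgHom.congr_fun hbgam v }, AlgHom.ext fun v => ?_⟩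
  obtain ⟨v, rfl⟩ := hζs v
  show Ideal.Quotient.mk N (β (ζ v)) = β₀ (ζ v)
  rw [← hmk v, show β (ζ v) = y' v from AlgHom.congr_fun hβζ v]
  exact Ideal.Quotient.eq.mpr (hy'N v)

end Groth.Agent.H21Fix
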