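import Groth.Agent.H21Fix.ConjAction
import Groth.Agent.H19Grp.NeutralOpen
import Groth.Agent.H19Grp.Kernel
import Groth.Agent.H18Descent.Basic
import Mathlib.AlgebraicGeometry.Morphisms.LocalFlatDescent
import Mathlib.AlgebraicGeometry.Geometrically.Irreducible

/-!
Fixed points of actions by automorphisms as subgroups; smoothness of quotient maps; connectedness through fibrations.
-/

set_option autoImplicit false
set_option linter.style.haveILetI false
set_option backward.isDefEq.respectTransparency false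
set_option synthInstance.maxHeartbeats 400000

universe u

open CategoryTheory CategoryTheory.Limits MonoidalCategory CartesianMonoidalCategory MonObj GrpObj AlgebraicGeometry

namespace Groth.Agent.H21Fix

variable {S : Scheme.{u}}

/-- the fixed locus of an action by automorphisms is a subgroup -/
theorem exists_grpObj_fixed {Q G Z : Over S} [GrpObj Q] [GrpObj G] (a : AlgGrp.Action Q G)
    (hmul : ∀ (X : Over S) (q : X ⟶ Q) (g g' : X ⟶ G),
      lift q (g * g') ≫ a.act = (lift q g ≫ a.act) * (lift q g' ≫ a.act))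
    (z : Z ⟶ G) [Mono z] (hZ : IsFixedLocusOver a z) : ∃ (_ : GrpObj Z), IsMonHom z := by
  have h1 : ∀ {X : Over S} (q : X ⟶ Q), lift q (1 : X ⟶ G) ≫ a.act = 1 := fun {X} q => by
    have h := hmul X q 1 1
    rw [_root_.one_mul] at h
    exact left_eq_mul.mp h
  have hmem : ∀ {T : Over S} (g : T ⟶ Z) (T' : Over S) (t : T' ⟶ T) (q : T' ⟶ Q),
      lift q (t ≫ g ≫ z) ≫ a.act = t ≫ g ≫ z := fun g T' t q => (hZ _ _).mp ⟨g, rfl⟩ T' t q
  obtain ⟨e₀, he₀⟩ := (hZ (𝟙_ _) η[G]).mpr fun T' t q => by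
    rw [toUnit_unique t (toUnit T'), ← Hom.one_def, h1]
  obtain ⟨m₀, hm₀⟩ := (hZ (Z ⊗ Z) ((z ⊗ₘ z) ≫ μ[G])).mpr fun T' t q => by
    rw [show (z ⊗ₘ z) ≫ μ[G] = (fst _ _ ≫ z) * (snd _ _ ≫ z) by rw [Hom.mul_def, lift_fst_comp_snd_comp],
      MonObj.comp_mul, hmul, hmem (fst Z Z), hmem (snd Z Z)]
  obtain ⟨i₀, hi₀⟩ := (hZ Z (z ≫ ι[G])).mpr fun T' t q => by
    rw [← Hom.inv_def, GrpObj.comp_inv]
    have h := hmul T' q (t ≫ z) (t ≫ z)⁻¹
    rw [mul_inv_cancel, h1] at h
    rw [eq_comm, ← inv_eq_of_mul_eq_one_right h.symm,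
      show lift q (t ≫ z) ≫ a.act = t ≫ z by simpa using hmem (𝟙 Z) T' t q]
  exact H19Grp.exists_grpObj_of_mono G z e₀ he₀ m₀ hm₀ i₀ hi₀

variable {G A N : Over S} [GrpObj G] [GrpObj A]

/-- the square of a homomorphism and its kernel -/
theorem isPullback_kernel (q : G ⟶ A) [IsMonHom q] (i : N ⟶ G) (hker : AlgGrp.IsKernel i q) :
    IsPullback (fst G N) (fst G N * (snd G N ≫ i)) q q := by
  have := H19Grp.kernel_mono hker
  have key : ∀ s : PullbackCone q q, ∃ n : s.pt ⟶ N, n ≫ i = s.fst⁻¹ * s.snd := fun s =>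
    H19Grp.kernel_lift hker _ (by rw [MonObj.mul_comp, GrpObj.inv_comp, s.condition, inv_mul_cancel])
  refine ⟨⟨?_⟩, ⟨PullbackCone.IsLimit.mk _ (fun s => lift s.fst (key s).choose)
    (fun s => lift_fst _ _) (fun s => ?_) (fun s m h1 h2 => ?_)⟩⟩
  · rw [MonObj.mul_comp, Category.assoc, H19Grp.kernel_comp_eq_one hker, MonObj.comp_one, _root_.mul_one]
  · rw [MonObj.comp_mul, lift_fst, lift_snd_assoc, (key s).choose_spec, mul_inv_cancel_left]
  · refine CartesianMonoidalCategory.hom_ext _ _ (by rw [lift_fst]; exact h1) ?_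
    rw [lift_snd, ← cancel_mono i, (key s).choose_spec, ← h1, ← h2, MonObj.comp_mul,
      inv_mul_cancel_left, Category.assoc]

/-- a faithfully flat quasi-compact homomorphism with smooth kernel is smooth -/
theorem smooth_of_kernel (q : G ⟶ A) [IsMonHom q] [Flat q.left] [Surjective q.left] [QuasiCompact q.left]
    (i : N ⟶ G) (hker : AlgGrp.IsKernel i q) [Smooth N.hom] : Smooth q.left := by
  haveI : MorphismProperty.DescendsAlong @Smooth H18Descent.fpqc.{u} :=
    inferInstanceAs (MorphismProperty.DescendsAlong @Smooth (@Surjective ⊓ @Flat ⊓ @QuasiCompact))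
  have h := (isPullback_kernel q i hker).map (Over.forget S)
  refine MorphismProperty.of_isPullback_of_descendsAlong (P := @Smooth) (Q := H18Descent.fpqc.{u}) h
    ⟨⟨‹_›, ‹_›⟩, ‹_›⟩ ?_
  exact (inferInstance : Smooth (pullback.fst G.hom N.hom))

/-- connectedness through an open surjection with preconnected fibres -/
theorem connectedSpace_of_fibres {α β : Type*} [TopologicalSpace α] [TopologicalSpace β] [ConnectedSpace β]
    {f : α → β} (ho : IsOpenMap f) (hs : Function.Surjective f) (hfib : ∀ y, _root_.IsPreconnected (f ⁻¹' {y})) :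
    ConnectedSpace α := by
  haveI : Nonempty α := ⟨(hs (Classical.arbitrary β)).choose⟩
  haveI : PreconnectedSpace α := by
    refine preconnectedSpace_iff_clopen.mpr fun u hu => ?_
    have hd : Disjoint (f '' u) (f '' uᶜ) := by
      rw [Set.disjoint_left]
      rintro _ ⟨x, hx, rfl⟩ ⟨x', hx', he⟩
      exact hx' ((hfib (f x)).subset_isClopen hu ⟨x, rfl, hx⟩ he)
    have hcov : f '' u ∪ f '' uᶜ = Set.univ := by rw [← Set.image_union, Set.union_compl_self, Set.image_univ, hs.range_eq]
    have hc : IsClopen (f '' u) := ⟨by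
      rw [← isOpen_compl_iff, show (f '' u)ᶜ = f '' uᶜ from
        (IsCompl.compl_eq ⟨hd, codisjoint_iff.mpr hcov⟩)]
      exact ho _ hu.1.isOpen_compl, ho _ hu.2⟩
    rcases isClopen_iff.mp hc with h | h
    · exact Or.inl (Set.image_eq_empty.mp h)
    · refine Or.inr (Set.eq_univ_of_forall fun x => by_contra fun hx => ?_)
      exact Set.disjoint_left.mp hd (h ▸ Set.mem_univ (f x)) ⟨x, hx, rfl⟩
  exact ⟨inferInstance⟩

/-- fibres of a homomorphism with geometrically irreducible kernel are preconnected -/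
theorem isPreconnected_fibre (q : G ⟶ A) [IsMonHom q] (i : N ⟶ G) (hker : AlgGrp.IsKernel i q)
    [GeometricallyIrreducible N.hom] (y : A.left) : _root_.IsPreconnected (q.left ⁻¹' {y}) := by
  have h := (isPullback_kernel q i hker).map (Over.forget S)
  let p₁ : (G ⊗ N).left ⟶ G.left := (fst G N).left
  let p₂ : (G ⊗ N).left ⟶ G.left := (fst G N * (snd G N ≫ i)).left
  have hw : p₁ ≫ q.left = p₂ ≫ q.left := h.w
  have hgi : GeometricallyIrreducible p₁ := (inferInstance : GeometricallyIrreducible (pullback.fst G.hom N.hom))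
  have hfib : ∀ x : G.left, _root_.IsPreconnected (p₁ ⁻¹' {x}) := fun x => by
    haveI : GeometricallyIrreducible (p₁.fiberToSpecResidueField x) :=
      @MorphismProperty.pullback_snd _ _ _ _ _ _ _ _ _ _ hgi
    rcases isEmpty_or_nonempty ↥(p₁.fiber x) with he | hne
    · have : p₁ ⁻¹' {x} = ∅ := Set.eq_empty_iff_forall_notMem.mpr fun z hz =>
        he.false ((p₁.fiberHomeo x).symm ⟨z, hz⟩)
      rw [this]; exact isPreconnected_empty
    · haveI : IrreducibleSpace ↥(p₁.fiber x) :=
        @GeometricallyIrreducible.irreducibleSpace_of_subsingleton _ _ (p₁.fiberToSpecResidueField x) ‹_›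
          (inferInstanceAs (Subsingleton (PrimeSpectrum (G.left.residueField x))))
          (inferInstanceAs (Nonempty (PrimeSpectrum (G.left.residueField x))))
      haveI : PreconnectedSpace ↥(p₁ ⁻¹' {x}) := ⟨by
        rw [← (p₁.fiberHomeo x).surjective.range_eq]
        exact isPreconnected_range (p₁.fiberHomeo x).continuous⟩
      exact isPreconnected_iff_preconnectedSpace.mpr inferInstance
  refine isPreconnected_of_forall_pair fun x hx x' hx' => ?_
  obtain ⟨c, hc₁, hc₂⟩ := Scheme.Pullback.exists_preimage_pullback x x'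
    (show q.left x = q.left x' from (Set.mem_singleton_iff.mp hx).trans (Set.mem_singleton_iff.mp hx').symm)
  let c' := h.isoPullback.inv c
  have hc₁' : p₁ c' = x := (congrArg (fun m : pullback q.left q.left ⟶ G.left => m c) h.isoPullback_inv_fst).trans hc₁
  have hc₂' : p₂ c' = x' := (congrArg (fun m : pullback q.left q.left ⟶ G.left => m c) h.isoPullback_inv_snd).trans hc₂
  obtain ⟨n, hn⟩ := H19Grp.kernel_lift hker (1 : G ⟶ G) (MonObj.one_comp _)
  let e : G ⟶ G ⊗ N := lift (𝟙 G) n
  refine ⟨p₂ '' (p₁ ⁻¹' {x}), ?_, ⟨e.left x, ?_, ?_⟩, ⟨c', hc₁', hc₂'⟩, (hfib x).image _ p₂.continuous.continuousOn⟩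
  · rintro _ ⟨z, hz, rfl⟩
    show q.left (p₂ z) = y
    rw [← Scheme.Hom.comp_apply, ← hw, Scheme.Hom.comp_apply, show p₁ z = x from hz]
    exact hx
  · exact congrArg (fun m : G ⟶ G => m.left x) (lift_fst (𝟙 G) n)
  · exact congrArg (fun m : G ⟶ G => m.left x) (show e ≫ (fst G N * (snd G N ≫ i)) = 𝟙 G by
      rw [MonObj.comp_mul, lift_fst, lift_snd_assoc, hn, _root_.mul_one])

end Groth.Agent.H21Fix
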