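import Groth.Agent.H21Fix.Points
import Groth.Agent.H21Diag.Actions
import Groth.Agent.H21Diag.KernelType
import Groth.Agent.H19Grp.ConnFibre
import Groth.Agent.H19Grp.PointsEq

/-!
Over a field: finite subgroups are dense, and a group with connected fibre is generated by any open
neighbourhood of the unit.
-/

set_option autoImplicit false
set_option linter.style.haveILetI false
set_option backward.isDefEq.respectTransparency false
set_option maxHeartbeats 800000
set_option synthInstance.maxHeartbeats 200000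

universe u

open CategoryTheory MonoidalCategory CartesianMonoidalCategory MonObj GrpObj AlgebraicGeometry
open CategoryTheory.Limits
open Groth.Agent.H21Diag

namespace Groth.Agent.H21Fix

/-- An element of a group algebra vanishing in all finite quotients vanishes. -/
theorem eq_zero_of_finite_quotients {D : Type u} [CommRing D] {M : Type} [AddCommGroup M] [Module.Finite ℤ M]
    (v : MonoidAlgebra D (Multiplicative M))
    (h : ∀ (P : Submodule ℤ M), Finite (M ⧸ P) → MonoidAlgebra.mapDomainRingHom D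
      (AddMonoidHom.toMultiplicative P.mkQ.toAddMonoidHom) v = 0) : v = 0 := by
  classical
  ext m
  by_contra hm
  have hm' : v.coeff m ≠ 0 := by simpa using hm
  -- one finite quotient separating `m` from the rest of the support
  let s := v.coeff.support.erase m
  choose P hP hPf using fun x : s => exists_finite_quotient M (x.1.toAdd - m.toAdd)
    (sub_ne_zero.mpr fun e => (Finset.mem_erase.mp x.2).1 (Multiplicative.toAdd.injective e))
  let Q : Submodule ℤ M := ⨅ x, P x
  have hQf : Finite (M ⧸ Q) := by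
    let φ : (M ⧸ Q) →ₗ[ℤ] ((x : s) → M ⧸ P x) :=
      LinearMap.pi fun x => Q.mapQ (P x) LinearMap.id (fun z hz => Submodule.mem_iInf _ |>.mp hz x)
    refine Finite.of_injective φ ((injective_iff_map_eq_zero φ).mpr fun z hz => ?_)
    obtain ⟨z, rfl⟩ := Submodule.Quotient.mk_surjective Q z
    rw [Submodule.Quotient.mk_eq_zero, Submodule.mem_iInf]
    intro x
    have := congrFun hz x
    simpa [φ, Submodule.Quotient.mk_eq_zero] using this
  let q : Multiplicative M →* Multiplicative (M ⧸ Q) := AddMonoidHom.toMultiplicative Q.mkQ.toAddMonoidHom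
  have h1 := congrArg (fun w => MonoidAlgebra.coeff w (q m)) (h Q hQf)
  simp only [MonoidAlgebra.mapDomainRingHom_apply, MonoidAlgebra.coeff_mapDomain, MonoidAlgebra.coeff_zero,
    Finsupp.zero_apply] at h1
  rw [Finsupp.mapDomain, Finsupp.sum, Finsupp.finsetSum_apply, Finset.sum_eq_single m] at h1
  · rw [Finsupp.single_eq_same] at h1; exact hm' h1
  · intro b hb hbm
    refine Finsupp.single_eq_of_ne fun e => ?_
    have hb' : b ∈ s := Finset.mem_erase.mpr ⟨hbm, hb⟩
    have h2 : b.toAdd - m.toAdd ∈ Q := by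
      rw [← Submodule.Quotient.eq]
      exact (congrArg Multiplicative.toAdd e).symm
    exact hP ⟨b, hb'⟩ (Submodule.mem_iInf _ |>.mp h2 ⟨b, hb'⟩)
  · intro h0; rw [Finsupp.notMem_support_iff.mp h0, Finsupp.single_zero, Finsupp.zero_apply]

variable {S U : Scheme.{u}} {u₀ : U ⟶ S} {G X : Over S} [GrpObj G] {M : Type} [AddCommGroup M]
  (e : Grp.mk (Red.bc u₀ G) ≅ Grp.mk (Red.DS U M)) (a : AlgGrp.Action G X)
  {K : Type u} [CommRing K] (y : Spec (CommRingCat.of K) ⟶ U)

/-- An action fixed on all finite quotients fixes a point, when the fibre is separated. -/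
theorem actP_eq_self_of_finite [Module.Finite ℤ M] [IsSeparated (pullback.snd X.hom (y ≫ u₀))]
    {D : Type u} [CommRing D] (g : K →+* D) (w : Spec (CommRingCat.of D) ⟶ XP (X := X) (u₀ := u₀) y)
    (hw : w ≫ pullback.snd _ _ = Spec.map (CommRingCat.ofHom g))
    (h : ∀ (P : Submodule ℤ M), Finite (M ⧸ P) → ∀ (D' : Type u) [CommRing D'] (θ : D →+* D')
      (χ : Multiplicative (M ⧸ P) →* D')
      (hw' : (Spec.map (CommRingCat.ofHom θ) ≫ w) ≫ pullback.snd _ _ = Spec.map (CommRingCat.ofHom (θ.comp g))),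
      actP e a y (θ.comp g) (χ.comp (AddMonoidHom.toMultiplicative P.mkQ.toAddMonoidHom))
        (Spec.map (CommRingCat.ofHom θ) ≫ w) hw' = Spec.map (CommRingCat.ofHom θ) ≫ w)
    (χ : Multiplicative M →* D) : actP e a y g χ w hw = w := by
  classical
  let i₁ : D →+* MonoidAlgebra D (Multiplicative M) := MonoidAlgebra.singleOneRingHom
  have hw₁ : (Spec.map (CommRingCat.ofHom i₁) ≫ w) ≫ pullback.snd _ _ = Spec.map (CommRingCat.ofHom (i₁.comp g)) := by
    rw [Category.assoc, hw, ← specMap_comp]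
  let l := actP e a y (i₁.comp g) (MonoidAlgebra.of D (Multiplicative M)) _ hw₁
  let r := Spec.map (CommRingCat.ofHom i₁) ≫ w
  suffices hlr : l = r by
    let ev : MonoidAlgebra D (Multiplicative M) →+* D :=
      MonoidAlgebra.liftNCRingHom (RingHom.id D) χ fun _ _ => Commute.all _ _
    have h1 : ev.comp i₁ = RingHom.id D := RingHom.ext fun x => by simp [ev, i₁]
    have e1 : Spec.map (CommRingCat.ofHom ev) ≫ r = w := specMap_eq_self i₁ ev h1 w
    have e2 := (actP_comp e a y _ _ _ hw₁ ev).symm.trans (congrArg (Spec.map (CommRingCat.ofHom ev) ≫ ·) hlr)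
    refine (actP_congr e a y ?_ ?_ e1.symm).trans (e2.trans e1)
    · rw [← RingHom.comp_assoc, h1, RingHom.id_comp]
    · exact MonoidHom.ext fun x => by simp [ev]
  have hs : l ≫ pullback.snd X.hom (y ≫ u₀) = r ≫ pullback.snd X.hom (y ≫ u₀) := by
    rw [actP_snd]; exact hw₁.symm
  let c := pullback.fst (pullback.lift l r hs) (pullback.diagonal (pullback.snd X.hom (y ≫ u₀)))
  have : IsClosedImmersion c := inferInstance
  obtain ⟨I, ε, hε⟩ := IsClosedImmersion.Spec_iff.mp this
  have hI0 : I = ⊥ := by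
    refine eq_bot_iff.mpr fun v hv => Ideal.mem_bot.mpr (eq_zero_of_finite_quotients v fun P hP => ?_)
    let θ : MonoidAlgebra D (Multiplicative M) →+* MonoidAlgebra D (Multiplicative (M ⧸ P)) :=
      MonoidAlgebra.mapDomainRingHom D (AddMonoidHom.toMultiplicative P.mkQ.toAddMonoidHom)
    have h1 : Spec.map (CommRingCat.ofHom θ) ≫ l = Spec.map (CommRingCat.ofHom θ) ≫ r := by
      refine (actP_comp e a y _ _ _ hw₁ θ).trans ?_
      have h2 := h P hP _ (θ.comp i₁) (MonoidAlgebra.of D (Multiplicative (M ⧸ P))) (by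
        rw [Category.assoc, hw, ← specMap_comp])
      have e1 : Spec.map (CommRingCat.ofHom θ) ≫ Spec.map (CommRingCat.ofHom i₁) ≫ w =
          Spec.map (CommRingCat.ofHom (θ.comp i₁)) ≫ w := specMap_comp_assoc i₁ θ w
      exact (actP_congr e a y (RingHom.comp_assoc _ _ _).symm (MonoidHom.ext fun x => by simp [θ]) e1).trans
        (h2.trans e1.symm)
    let k : Spec (CommRingCat.of (MonoidAlgebra D (Multiplicative (M ⧸ P)))) ⟶ _ :=
      pullback.lift (f := pullback.lift l r hs) (g := pullback.diagonal (pullback.snd X.hom (y ≫ u₀)))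
        (Spec.map (CommRingCat.ofHom θ)) (Spec.map (CommRingCat.ofHom θ) ≫ l) (by
        refine pullback.hom_ext ?_ ?_ <;> simp only [Category.assoc, pullback.lift_fst, pullback.lift_snd,
          pullback.diagonal_fst, pullback.diagonal_snd, Category.comp_id, h1])
    have hk : k ≫ c = Spec.map (CommRingCat.ofHom θ) := pullback.lift_fst _ _ _
    obtain ⟨ψ, hψ⟩ := Spec.map_surjective (k ≫ ε.hom)
    have h2 : θ = ψ.hom.comp (Ideal.Quotient.mk I) := congrArg CommRingCat.Hom.hom (Spec.map_injective (by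
      rw [specMap_comp, CommRingCat.ofHom_hom, hψ, Category.assoc, ← hε, hk]) :
        CommRingCat.ofHom θ = CommRingCat.ofHom (ψ.hom.comp (Ideal.Quotient.mk I)))
    change θ v = 0
    rw [h2, RingHom.comp_apply, Ideal.Quotient.eq_zero_iff_mem.mpr hv, map_zero]
  subst hI0
  let σ : MonoidAlgebra D (Multiplicative M) ⧸ (⊥ : Ideal _) →+* MonoidAlgebra D (Multiplicative M) :=
    Ideal.Quotient.lift ⊥ (RingHom.id _) fun v hv => Ideal.mem_bot.mp hv
  let k : Spec (CommRingCat.of (MonoidAlgebra D (Multiplicative M))) ⟶ _ := Spec.map (CommRingCat.ofHom σ) ≫ ε.inv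
  have hk : k ≫ c = 𝟙 _ := by
    rw [Category.assoc, hε, Iso.inv_hom_id_assoc, ← specMap_comp,
      Ideal.Quotient.lift_comp_mk, CommRingCat.ofHom_id, Spec.map_id]
  have h3 := congrArg (k ≫ ·) (pullback.condition (f := pullback.lift l r hs)
    (g := pullback.diagonal (pullback.snd X.hom (y ≫ u₀))))
  have h4 := congrArg (· ≫ pullback.fst _ _) h3
  have h5 := congrArg (· ≫ pullback.snd _ _) h3
  simp only [Category.assoc, pullback.lift_fst, pullback.lift_snd, pullback.diagonal_fst,
    pullback.diagonal_snd, Category.comp_id] at h4 h5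
  rw [← Category.assoc, hk, Category.id_comp] at h4 h5
  exact h4.trans h5.symm

section gen

variable {K : Type u} [Field K] {S : Scheme.{u}} (G : Over S) [GrpObj G] (z : Spec (CommRingCat.of K) ⟶ S)

/-- Every point of a fibre is, after a faithfully flat extension, a product of two points of a given open
neighbourhood of the unit. -/
theorem exists_mul_of_open [LocallyOfFiniteType G.hom] (hconn : ∀ s : S, ConnectedSpace (G.hom.fiber s))
    (W : (Red.bc z G).left.Opens)
    (he : Set.range (η[Red.bc z G]).left.base ⊆ (W : Set (Red.bc z G).left))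
    {X : Over (Spec (CommRingCat.of K))} (x : X ⟶ Red.bc z G) :
    ∃ (T : Over (Spec (CommRingCat.of K))) (π : T ⟶ X) (w₁ w₂ : T ⟶ Red.bc z G),
      Flat π.left ∧ Surjective π.left ∧ Set.range w₁.left.base ⊆ (W : Set (Red.bc z G).left) ∧
      Set.range w₂.left.base ⊆ (W : Set (Red.bc z G).left) ∧ π ≫ x = w₁ * w₂ := by
  let G' := Red.bc z G
  let h : X ⊗ G' ⟶ G' := (fst X G' ≫ x) * (snd X G')⁻¹
  let O : (X ⊗ G').left.Opens := (snd X G').left ⁻¹ᵁ W ⊓ h.left ⁻¹ᵁ W
  let T : Over (Spec (CommRingCat.of K)) := Over.mk (O.ι ≫ (X ⊗ G').hom)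
  let ι' : T ⟶ X ⊗ G' := Over.homMk O.ι rfl
  refine ⟨T, ι' ≫ fst X G', ι' ≫ h, ι' ≫ snd X G', ?_, ⟨fun p => ?_⟩, ?_, ?_, ?_⟩
  · haveI : Subsingleton (Spec (CommRingCat.of K)) := inferInstanceAs (Subsingleton (PrimeSpectrum K))
    haveI : Flat G'.hom := inferInstance
    change Flat (O.ι ≫ pullback.fst X.hom G'.hom)
    infer_instance
  · -- two non-empty opens of a geometric fibre meet
    let Ω := AlgebraicClosure (X.left.residueField p)
    let t : Spec (CommRingCat.of Ω) ⟶ X.left :=
      Spec.map (CommRingCat.ofHom (algebraMap (X.left.residueField p) Ω)) ≫ X.left.fromSpecResidueField p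
    let P : Over (Spec (CommRingCat.of K)) := Over.mk (t ≫ X.hom)
    let tP : P ⟶ X := Over.homMk t rfl
    haveI hirr : IrreducibleSpace ↥(P ⊗ G').left := by
      have h1 := H19Grp.irreducibleSpace_pullback_of_connected_fibres G hconn ((t ≫ X.hom) ≫ z)
      exact (Scheme.Hom.homeomorph ((pullbackLeftPullbackSndIso G.hom z (t ≫ X.hom)).symm ≪≫
        pullbackSymmetry G'.hom (t ≫ X.hom)).hom).irreducibleSpace_iff.mp h1
    let z₀ : P.left := (default : PrimeSpectrum Ω)
    let a₁ : P ⟶ P ⊗ G' := lift (𝟙 P) 1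
    let a₂ : P ⟶ P ⊗ G' := lift (𝟙 P) (tP ≫ x)
    let h₁ : P ⊗ G' ⟶ G' := snd P G'
    let h₂ : P ⊗ G' ⟶ G' := (tP ▷ G') ≫ h
    have hone : ∀ (f : P ⟶ G'), f = 1 → f.left z₀ ∈ W := by
      rintro f rfl
      refine he ⟨(toUnit P).left z₀, ?_⟩
      rw [Hom.one_def, Over.comp_left, Scheme.Hom.comp_apply]
    have e1 : a₁.left z₀ ∈ h₁.left ⁻¹ᵁ W := by
      change h₁.left (a₁.left z₀) ∈ W
      rw [← Scheme.Hom.comp_apply, ← Over.comp_left]
      exact hone _ (lift_snd _ _)
    have e2 : a₂.left z₀ ∈ h₂.left ⁻¹ᵁ W := by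
      change h₂.left (a₂.left z₀) ∈ W
      rw [← Scheme.Hom.comp_apply, ← Over.comp_left]
      refine hone _ ?_
      simp [a₂, h₂, h, MonObj.comp_mul, GrpObj.comp_inv]
    obtain ⟨w, hw1, hw2⟩ := nonempty_preirreducible_inter (h₁.left ⁻¹ᵁ W).2 (h₂.left ⁻¹ᵁ W).2
      ⟨_, e1⟩ ⟨_, e2⟩
    have hw1' : ((tP ▷ G').left w) ∈ (snd X G').left ⁻¹ᵁ W := by
      change (snd X G').left ((tP ▷ G').left w) ∈ W
      rw [← Scheme.Hom.comp_apply, ← Over.comp_left, whiskerRight_snd]
      exact hw1
    have hw2' : ((tP ▷ G').left w) ∈ h.left ⁻¹ᵁ W := by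
      change h.left ((tP ▷ G').left w) ∈ W
      rw [← Scheme.Hom.comp_apply, ← Over.comp_left]
      exact hw2
    refine ⟨(⟨(tP ▷ G').left w, hw1', hw2'⟩ : O), ?_⟩
    change (fst X G').left ((tP ▷ G').left w) = p
    rw [← Scheme.Hom.comp_apply, ← Over.comp_left, whiskerRight_fst, Over.comp_left, Scheme.Hom.comp_apply]
    generalize ((fst P G').left) w = q
    change t q = p
    simp only [t, Scheme.Hom.comp_apply]
    exact Scheme.fromSpecResidueField_apply p _
  · rintro _ ⟨p, rfl⟩; exact p.2.2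
  · rintro _ ⟨p, rfl⟩; exact p.2.1
  · rw [← MonObj.comp_mul, Category.assoc, inv_mul_cancel_right]

end gen

end Groth.Agent.H21Fix
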