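import Groth.Agent.H21Fix.FiniteNhd
import Groth.Agent.H21Fix.FieldFibre
import Groth.Agent.H21Diag.FibreTrivial
import Groth.Agent.H21Cent.SubMove

/-!
Centrality of a homomorphism from a group of multiplicative type passes to generizations.
-/

set_option autoImplicit false
set_option linter.style.haveILetI false
set_option backward.isDefEq.respectTransparency false
set_option maxHeartbeats 800000
set_option synthInstance.maxHeartbeats 200000

universe u

open CategoryTheory MonoidalCategory CartesianMonoidalCategory MonObj GrpObj AlgebraicGeometry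
open CategoryTheory.Limits
open Groth.Agent.H21Diag

namespace Groth.Agent.H21Fix

variable {S : Scheme.{u}} {H G : Over S} [GrpObj H] [GrpObj G] (u : H ⟶ G)

/-- the homomorphism is central over `z` -/
def CentralAt {T : Scheme.{u}} (z : T ⟶ S) : Prop :=
  ∀ (X : Over S) (p : X.left ⟶ T), p ≫ z = X.hom → ∀ (g : X ⟶ G) (h : X ⟶ H), g * (h ≫ u) = (h ≫ u) * g

omit [GrpObj H] in
theorem CentralAt.comp {T T' : Scheme.{u}} {z : T ⟶ S} (h : CentralAt u z) (d : T' ⟶ T) :
    CentralAt u (d ≫ z) := fun X p hp => h X (p ≫ d) (by rw [Category.assoc, hp])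

omit [GrpObj H] in
theorem CentralAt.of_cover {T T' : Scheme.{u}} {z : T ⟶ S} (d : T' ⟶ T) [Flat d] [Surjective d]
    (h : CentralAt u (d ≫ z)) : CentralAt u z := by
  intro X p hp g x
  let P : Over S := Over.mk (pullback.fst p d ≫ X.hom)
  let π : P ⟶ X := Over.homMk (pullback.fst p d) rfl
  have hepi : Epi π.left := Flat.epi_of_flat_of_surjective (pullback.fst p d)
  have h1 := h P (pullback.snd p d) (by
    rw [← Category.assoc, ← pullback.condition, Category.assoc, hp]; rfl) (π ≫ g) (π ≫ x)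
  rw [Category.assoc, ← MonObj.comp_mul, ← MonObj.comp_mul] at h1
  refine Over.OverMorphism.ext ((cancel_epi π.left).mp ?_)
  rw [← Over.comp_left, ← Over.comp_left]
  exact congrArg (fun m => m.left) h1

variable [IsMonHom u] {U : Scheme.{u}} {u₀ : U ⟶ S} {M : Type} [AddCommGroup M]
  (e : Grp.mk (Red.bc u₀ H) ≅ Grp.mk (Red.DS U M))

theorem act_eq_self_iff {B : Type u} [CommRing B] (y : Spec (CommRingCat.of B) ⟶ U) (χ : Multiplicative M →* B)
    (x : Over.mk (y ≫ u₀) ⟶ G) :
    act e (conjAct u) y χ x.left (Over.w x) = x.left ↔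
      x * (gpt e y χ ≫ u) = (gpt e y χ ≫ u) * x := by
  have h : act e (conjAct u) y χ x.left (Over.w x) = ((gpt e y χ ≫ u) * x * (gpt e y χ ≫ u)⁻¹).left := by
    rw [← lift_conjAct]
    exact congrArg (fun q : Over.mk (y ≫ u₀) ⟶ G => (lift (gpt e y χ) q ≫ (conjAct u).act).left)
      (Over.OverMorphism.ext rfl)
  rw [h]
  constructor
  · intro h'
    exact (mul_inv_eq_iff_eq_mul.mp (Over.OverMorphism.ext h')).symm
  · intro h'
    exact congrArg (fun m => m.left) (mul_inv_eq_iff_eq_mul.mpr h'.symm)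

/-- on the chart, triviality of the conjugation is centrality -/
theorem centralAt_of_triv {B : Type u} [CommRing B] (y : Spec (CommRingCat.of B) ⟶ U)
    (h : Triv e (conjAct u) y ⊥) : CentralAt u (y ≫ u₀) := by
  intro X p hp g x
  refine Over.OverMorphism.ext (X.left.affineCover.hom_ext _ _ fun i => ?_)
  let f := X.left.affineCover.f i
  obtain ⟨φ, hφ⟩ := Spec.map_surjective (f ≫ p)
  let v := Spec.map (CommRingCat.ofHom φ.hom) ≫ y
  let t : Over.mk (v ≫ u₀) ⟶ X := Over.homMk f (by
    change f ≫ X.hom = v ≫ u₀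
    rw [← hp, ← Category.assoc f p, ← hφ, Category.assoc]; rfl)
  obtain ⟨χ, hχ⟩ := gpt_surjective e v (t ≫ x)
  have h1 := (act_eq_self_iff u e v χ (t ≫ g)).mp (h _ φ.hom (Ideal.map_bot) χ _ _)
  rw [hχ, show (t ≫ x) ≫ u = t ≫ x ≫ u from Category.assoc _ _ _, ← MonObj.comp_mul, ← MonObj.comp_mul] at h1
  exact congrArg (fun m => m.left) h1

/-- centrality gives triviality of the conjugation on the chart -/
theorem triv_of_centralAt {B : Type u} [CommRing B] (y : Spec (CommRingCat.of B) ⟶ U) (J : Ideal B)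
    (h : CentralAt u (Spec.map (CommRingCat.ofHom (Ideal.Quotient.mk J)) ≫ y ≫ u₀)) :
    Triv e (conjAct u) y J := by
  intro B' _ φ hφ χ x hx
  let xG : Over.mk ((Spec.map (CommRingCat.ofHom φ) ≫ y) ≫ u₀) ⟶ G := Over.homMk x hx
  let l : B ⧸ J →+* B' := Ideal.Quotient.lift J φ fun r hr => Ideal.mem_bot.mp (hφ ▸ Ideal.mem_map_of_mem φ hr)
  have hl : l.comp (Ideal.Quotient.mk J) = φ := Ideal.Quotient.lift_comp_mk _ _ _
  exact (act_eq_self_iff u e _ χ xG).mpr (h _ (Spec.map (CommRingCat.ofHom l)) (by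
    rw [specMap_comp_assoc, hl]; exact (Category.assoc _ _ _).symm) xG _)

variable [LocallyOfFiniteType G.hom]

/-- on an affine base in a chart: if central over the quotient by a prime then every finite subgroup commutes with
an open neighbourhood of the unit at that prime -/
theorem exists_open_finite {R : Type u} [CommRing R] (y : Spec (CommRingCat.of R) ⟶ U) (m : Ideal R) [m.IsPrime]
    (h : Triv e (conjAct u) y m) {N : Type} [CommGroup N] [Finite N] (p : Multiplicative M →* N) :
    ∃ W : (XP (X := G) (u₀ := u₀) y).Opens,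
      (∀ q : PrimeSpectrum R, q.asIdeal ≤ m →
        ∀ s : Spec (CommRingCat.of R) ⟶ XP (X := G) (u₀ := u₀) y,
        s ≫ pullback.fst _ _ = (y ≫ u₀) ≫ (η[G]).left → s ≫ pullback.snd _ _ = 𝟙 _ → s.base q ∈ W) ∧
      ∀ (D : Type u) [CommRing D] (g : R →+* D) (χ : N →* D) (w : Spec (CommRingCat.of D) ⟶ XP (X := G) (u₀ := u₀) y)
        (hw : w ≫ pullback.snd _ _ = Spec.map (CommRingCat.ofHom g)),
        Set.range w.base ⊆ (W : Set (XP (X := G) (u₀ := u₀) y)) →
        actP e (conjAct u) y g (χ.comp p) w hw = w := by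
  let s₀ : Spec (CommRingCat.of R) ⟶ XP (X := G) (u₀ := u₀) y := pullback.lift ((y ≫ u₀) ≫ (η[G]).left) (𝟙 _) (by
    rw [Category.assoc, show (η[G]).left ≫ G.hom = 𝟙 S from Over.w η[G]]; simp)
  let pm : PrimeSpectrum R := ⟨m, inferInstance⟩
  obtain ⟨O, hO, hmO, -⟩ := exists_isAffineOpen_mem_and_subset (U := ⊤) (x := s₀.base pm) (Set.mem_univ _)
  obtain ⟨φ, hφ⟩ := Spec.map_surjective (hO.fromSpec ≫ pullback.snd _ _)
  letI : Algebra R Γ(XP (X := G) (u₀ := u₀) y, O) := φ.hom.toAlgebra
  have hj : hO.fromSpec ≫ pullback.snd _ _ =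
      Spec.map (CommRingCat.ofHom (algebraMap R Γ(XP (X := G) (u₀ := u₀) y, O))) := hφ.symm
  haveI : Algebra.FiniteType R Γ(XP (X := G) (u₀ := u₀) y, O) := by
    have h1 : LocallyOfFiniteType (Spec.map φ) := by rw [hφ]; infer_instance
    exact (HasRingHomProperty.Spec_iff (P := @LocallyOfFiniteType)).mp h1
  obtain ⟨P, hP⟩ : s₀.base pm ∈ Set.range hO.fromSpec.base := by rw [hO.range_fromSpec]; exact hmO
  have hPm : m.map (algebraMap R Γ(XP (X := G) (u₀ := u₀) y, O)) ≤ (P : PrimeSpectrum _).asIdeal := by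
    refine Ideal.map_le_iff_le_comap.mpr (le_of_eq ?_)
    have h1 : (Spec.map φ).base P = pm := by
      rw [hφ, Scheme.Hom.comp_apply, hP, ← Scheme.Hom.comp_apply, pullback.lift_snd]
      rfl
    exact (congrArg PrimeSpectrum.asIdeal h1).symm
  obtain ⟨W₀, hPW, hW₀⟩ := exists_nhd_fixed e (conjAct u) y h p hO.fromSpec hj P hPm
  refine ⟨hO.fromSpec ''ᵁ W₀, fun q hq s hs1 hs2 => ?_, fun D _ g χ w hw hr => ?_⟩
  · obtain rfl : s = s₀ := pullback.hom_ext (hs1.trans (pullback.lift_fst _ _ _).symm)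
      (hs2.trans (pullback.lift_snd _ _ _).symm)
    exact (((PrimeSpectrum.le_iff_specializes q pm).mp hq).map s₀.continuous).mem_open
      (hO.fromSpec ''ᵁ W₀).2 ⟨P, hPW, hP⟩
  · have hr' : Set.range w.base ⊆ Set.range hO.fromSpec.base :=
      hr.trans (by rintro _ ⟨z, -, rfl⟩; exact ⟨z, rfl⟩)
    obtain ⟨ψ, hψ⟩ := Spec.map_surjective (IsOpenImmersion.lift hO.fromSpec w hr')
    have hw' : Spec.map (CommRingCat.ofHom ψ.hom) ≫ hO.fromSpec = w := by
      rw [CommRingCat.ofHom_hom, hψ, IsOpenImmersion.lift_fac]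
    have hg : g = ψ.hom.comp (algebraMap R Γ(XP (X := G) (u₀ := u₀) y, O)) :=
      congrArg CommRingCat.Hom.hom (Spec.map_injective (by
        rw [specMap_comp, ← hj, ← Category.assoc, hw', hw]) :
          CommRingCat.ofHom g = CommRingCat.ofHom (ψ.hom.comp (algebraMap R Γ(XP (X := G) (u₀ := u₀) y, O))))
    subst hw' hg
    refine hW₀ D ψ.hom ?_ χ hw
    rintro _ ⟨z, rfl⟩
    obtain ⟨z', hz', he⟩ := hr ⟨z, rfl⟩
    rw [← hO.fromSpec.isOpenEmbedding.injective (he.trans (Scheme.Hom.comp_apply _ _ _))]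
    exact hz'

variable [Module.Finite ℤ M]

/-- centrality at a prime of an affine chart passes to smaller primes -/
theorem centralAt_generization (hconn : ∀ t : S, ConnectedSpace (G.hom.fiber t))
    {R : Type u} [CommRing R] (y : Spec (CommRingCat.of R) ⟶ U) (m : Ideal R) [m.IsPrime]
    (h : Triv e (conjAct u) y m) {K : Type u} [Field K] (g : R →+* K) (hg : RingHom.ker g ≤ m) :
    CentralAt u ((Spec.map (CommRingCat.ofHom g) ≫ y) ≫ u₀) := by
  let yK := Spec.map (CommRingCat.ofHom g) ≫ y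
  let z := yK ≫ u₀
  haveI : IsSeparated (pullback.snd G.hom z) := H19Grp.PointsDense.isSeparated_grp (Red.bc z G)
  refine centralAt_of_triv u e yK fun D _ φ _ χ x hx => ?_
  let φ' := φ.comp (RingHom.id K)
  let w : Spec (CommRingCat.of D) ⟶ XP (X := G) (u₀ := u₀) yK :=
    pullback.lift x (Spec.map (CommRingCat.ofHom φ)) (hx.trans (Category.assoc _ _ _))
  have hw : w ≫ pullback.snd _ _ = Spec.map (CommRingCat.ofHom φ) := pullback.lift_snd _ _ _
  have key : actP e (conjAct u) yK φ χ w hw = w := by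
    refine actP_eq_self_of_finite e (conjAct u) yK φ w hw (fun P hP D' _ θ χN hw' => ?_) χ
    haveI := hP
    let p : Multiplicative M →* Multiplicative (M ⧸ P) := AddMonoidHom.toMultiplicative P.mkQ.toAddMonoidHom
    obtain ⟨W, hWe, hW⟩ := exists_open_finite u e y m h p
    -- the neighbourhood in the fibre
    let ν : XP (X := G) (u₀ := u₀) yK ⟶ XP (X := G) (u₀ := u₀) y :=
      pullback.lift (pullback.fst _ _) (pullback.snd _ _ ≫ Spec.map (CommRingCat.ofHom g)) (by
        rw [pullback.condition]; simp only [yK, Category.assoc])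
    let Wk : (Red.bc z G).left.Opens := ν ⁻¹ᵁ W
    have hunit : Set.range (η[Red.bc z G]).left.base ⊆ (Wk : Set (Red.bc z G).left) := by
      rintro _ ⟨q, rfl⟩
      let s₀ : Spec (CommRingCat.of R) ⟶ XP (X := G) (u₀ := u₀) y :=
        pullback.lift ((y ≫ u₀) ≫ (η[G]).left) (𝟙 _) (by
          rw [Category.assoc, show (η[G]).left ≫ G.hom = 𝟙 S from Over.w η[G]]; simp)
      have hs : (η[Red.bc z G]).left ≫ ν = Spec.map (CommRingCat.ofHom g) ≫ s₀ := by
        have h1 : (η[Red.bc z G]).left ≫ pullback.fst G.hom z = z ≫ (η[G]).left := by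
          simp
        refine pullback.hom_ext ?_ ?_
        · simp only [Category.assoc, ν, s₀, pullback.lift_fst]
          simp [z, yK]
        · rw [Category.assoc, pullback.lift_snd, ← Category.assoc,
            show (η[Red.bc z G]).left ≫ pullback.snd G.hom z = 𝟙 _ from Over.w η[Red.bc z G],
            Category.id_comp, Category.assoc, pullback.lift_snd, Category.comp_id]
      change ((η[Red.bc z G]).left ≫ ν).base q ∈ W
      rw [hs, Scheme.Hom.comp_apply]
      refine hWe _ ?_ s₀ (pullback.lift_fst _ _ _) (pullback.lift_snd _ _ _)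
      refine le_trans (le_of_eq ?_) hg
      change (q : PrimeSpectrum K).asIdeal.comap g = RingHom.ker g
      rw [((q : PrimeSpectrum K).asIdeal.eq_bot_or_top.resolve_right q.isPrime.ne_top)]
      rfl
    -- commuting
    let v := Spec.map (CommRingCat.ofHom (θ.comp φ)) ≫ yK
    let hχ : Over.mk (v ≫ u₀) ⟶ H := gpt e v (χN.comp p)
    let w' : Over.mk (Spec.map (CommRingCat.ofHom (θ.comp φ))) ⟶ Red.bc z G :=
      Over.homMk (Spec.map (CommRingCat.ofHom θ) ≫ w) hw'
    let xG : Over.mk (v ≫ u₀) ⟶ G :=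
      Over.homMk ((Spec.map (CommRingCat.ofHom θ) ≫ w) ≫ pullback.fst _ _) (xp_cond yK _ _ hw')
    suffices hcomm : xG * (hχ ≫ u) = (hχ ≫ u) * xG by
      refine pullback.hom_ext ?_ ?_
      · rw [actP_fst]
        exact (act_eq_self_iff u e v (χN.comp p) xG).mpr hcomm
      · rw [actP_snd, hw']
    obtain ⟨T, π, w₁, w₂, hπf, hπs, hr₁, hr₂, hmul⟩ := exists_mul_of_open G z hconn Wk hunit w'
    let T' : Over S := Over.mk (π.left ≫ v ≫ u₀)
    let π' : T' ⟶ Over.mk (v ≫ u₀) := Over.homMk π.left rfl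
    let b : T' ⟶ (Over.map z).obj T := Over.homMk (𝟙 _) (by
      change 𝟙 T.left ≫ T.hom ≫ z = π.left ≫ v ≫ u₀
      rw [Category.id_comp, ← Over.w π]
      simp [v, z, yK])
    have hpi : π' ≫ xG = (b ≫ H21Desc.tr w₁) * (b ≫ H21Desc.tr w₂) := by
      rw [← MonObj.comp_mul, ← H21Desc.tr_mul, ← hmul]
      refine Over.OverMorphism.ext ?_
      simp [π', xG, b, H21Cent.tr_left, w', z]
    have hcw : ∀ wi : T ⟶ Red.bc z G, Set.range wi.left.base ⊆ (Wk : Set (Red.bc z G).left) →
        (b ≫ H21Desc.tr wi) * (π' ≫ hχ ≫ u) = (π' ≫ hχ ≫ u) * (b ≫ H21Desc.tr wi) := by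
      intro wi hwi
      refine Over.OverMorphism.ext (T'.left.affineCover.hom_ext _ _ fun i => ?_)
      let f := T'.left.affineCover.f i
      obtain ⟨ψ, hψ⟩ := Spec.map_surjective (f ≫ π.left)
      let θ' := ψ.hom.comp (θ.comp φ)
      let v' := Spec.map (CommRingCat.ofHom θ') ≫ yK
      have hv' : Spec.map ψ ≫ v = v' := by
        conv_lhs => rw [← CommRingCat.ofHom_hom ψ]
        exact specMap_comp_assoc _ _ _
      let t : Over.mk (v' ≫ u₀) ⟶ T' := Over.homMk f (by
        change f ≫ π.left ≫ v ≫ u₀ = v' ≫ u₀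
        rw [← hv', ← Category.assoc f, ← hψ]
        simp [v])
      let wf : Spec (CommRingCat.of _) ⟶ XP (X := G) (u₀ := u₀) y := (f ≫ wi.left) ≫ ν
      have hwf : wf ≫ pullback.snd _ _ = Spec.map (CommRingCat.ofHom (θ'.comp g)) := by
        have h1 : (f ≫ wi.left) ≫ pullback.snd G.hom z = Spec.map (CommRingCat.ofHom θ') := by
          rw [Category.assoc, show wi.left ≫ pullback.snd G.hom z = T.hom from Over.w wi, ← Over.w π,
            ← Category.assoc, ← hψ]
          conv_lhs => rw [← CommRingCat.ofHom_hom ψ]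
          exact (specMap_comp _ _).symm
        simp only [wf, Category.assoc, ν, pullback.lift_snd]
        rw [← Category.assoc, ← Category.assoc, h1, ← specMap_comp]
      have hfix := hW _ (θ'.comp g) (ψ.hom.toMonoidHom.comp χN) wf hwf (by
        rintro _ ⟨q, rfl⟩
        exact hwi ⟨f.base q, rfl⟩)
      have h2 := congrArg (· ≫ pullback.fst _ _) hfix
      rw [actP_fst] at h2
      have hv : v' = Spec.map (CommRingCat.ofHom (θ'.comp g)) ≫ y := by
        simp only [v', yK, specMap_comp_assoc]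
      let xi : Over.mk (v' ≫ u₀) ⟶ G := t ≫ b ≫ H21Desc.tr wi
      have hxi : xi.left = wf ≫ pullback.fst _ _ := by
        simp [xi, t, b, wf, ν, H21Cent.tr_left, z]
      have h3 := (act_eq_self_iff u e v' (ψ.hom.toMonoidHom.comp (χN.comp p)) xi).mp
        ((act_congr e (conjAct u) hv rfl hxi).trans (h2.trans hxi.symm))
      have hgpt : t ≫ π' ≫ hχ = gpt e v' (ψ.hom.toMonoidHom.comp (χN.comp p)) := by
        have hgg : ∀ {B' : Type u} [CommRing B'] {v₁ v₂ : Spec (CommRingCat.of B') ⟶ U}, v₁ = v₂ →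
            ∀ c : Multiplicative M →* B', (gpt e v₁ c).left = (gpt e v₂ c).left := by
          rintro B' _ v₁ _ rfl c; rfl
        refine Over.OverMorphism.ext ?_
        refine Eq.trans ?_ (hgg (show Spec.map (CommRingCat.ofHom ψ.hom) ≫ v = v' by
          rw [CommRingCat.ofHom_hom]; exact hv') _)
        rw [gpt_comp e v (χN.comp p) ψ.hom, CommRingCat.ofHom_hom, hψ, Over.comp_left, Over.comp_left]
        exact (Category.assoc _ _ _).symm
      rw [← hgpt, show (t ≫ π' ≫ hχ) ≫ u = t ≫ π' ≫ hχ ≫ u by simp only [Category.assoc], ← MonObj.comp_mul,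
        ← MonObj.comp_mul] at h3
      exact congrArg CommaMorphism.left h3
    have hepi : Epi π'.left := Flat.epi_of_flat_of_surjective π.left
    refine Over.OverMorphism.ext ((cancel_epi π'.left).mp ?_)
    rw [← Over.comp_left, ← Over.comp_left]
    refine congrArg CommaMorphism.left ?_
    rw [MonObj.comp_mul, MonObj.comp_mul, hpi]
    exact (Commute.mul_left (hcw w₁ hr₁) (hcw w₂ hr₂) : _)
  have h2 := congrArg (· ≫ pullback.fst _ _) key
  rw [actP_fst] at h2
  refine ((act_congr e (conjAct u) rfl rfl ?_).trans h2).trans ?_ <;> simp [w]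

end Groth.Agent.H21Fix
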