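import Mathlib

/-!
A coaction of a finite-type diagonalisable group, trivial modulo an ideal, is trivial near each prime over it:
the non-invariant parts generate a finitely generated ideal `J` with `J ≤ mJ`.
-/

set_option autoImplicit false
set_option linter.style.haveILetI false

universe u

set_option maxHeartbeats 1000000

namespace Groth.Agent.H21Fix

variable {N : Type} [CommGroup N]

/-- evaluation along a ring map and a character -/
noncomputable abbrev ev {B D : Type u} [CommRing B] [CommRing D] (ψ : B →+* D) (χ : N →* D) :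
    MonoidAlgebra B N →+* D :=
  MonoidAlgebra.liftNCRingHom ψ χ fun _ _ => Commute.all _ _

theorem ev_single {B D : Type u} [CommRing B] [CommRing D] (ψ : B →+* D) (χ : N →* D) (n : N) (b : B) :
    ev ψ χ (MonoidAlgebra.single n b) = ψ b * χ n := by
  simp [ev]

theorem coeff_ev_inl {B D : Type u} [CommRing B] [CommRing D] (γ : B →+* MonoidAlgebra D N)
    (v : MonoidAlgebra B N) (a b : N) :
    (ev ((MonoidAlgebra.mapDomainRingHom D (MonoidHom.inr N N)).comp γ)
      ((MonoidAlgebra.of D (N × N)).comp (MonoidHom.inl N N)) v).coeff (a, b) = (γ (v.coeff a)).coeff b := by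
  classical
  induction v using MonoidAlgebra.induction_linear with
  | zero => simp
  | add x y hx hy => simp [hx, hy]
  | single n r =>
    rw [ev_single]
    generalize hw : γ r = w
    have h1 : ((MonoidAlgebra.mapDomainRingHom D (MonoidHom.inr N N)).comp γ) r =
        MonoidAlgebra.mapDomainRingHom D (MonoidHom.inr N N) w := by rw [RingHom.comp_apply, hw]
    rw [h1, MonoidAlgebra.coeff_single]
    by_cases hna : n = a
    · subst hna
      rw [Finsupp.single_eq_same, hw]
      clear h1 hw
      induction w using MonoidAlgebra.induction_linear with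
      | zero => simp
      | add x y hx hy => simp only [map_add, add_mul, MonoidAlgebra.coeff_add, Finsupp.add_apply, hx, hy, add_zero]
      | single m t =>
        simp only [MonoidAlgebra.mapDomainRingHom_apply, MonoidAlgebra.mapDomain_single, MonoidHom.inr_apply,
          MonoidHom.comp_apply, MonoidHom.inl_apply, MonoidAlgebra.of_apply, MonoidAlgebra.single_mul_single,
          mul_one, Prod.mk_mul_mk, one_mul, MonoidAlgebra.coeff_single]
        by_cases hmb : m = b
        · subst hmb; simp
        · simp [Finsupp.single_eq_of_ne, Ne.symm hmb]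
    · rw [Finsupp.single_eq_of_ne (Ne.symm hna), map_zero, MonoidAlgebra.coeff_zero, Finsupp.zero_apply]
      clear h1 hw
      induction w using MonoidAlgebra.induction_linear with
      | zero => simp
      | add x y hx hy => simp only [map_add, add_mul, MonoidAlgebra.coeff_add, Finsupp.add_apply, hx, hy, add_zero]
      | single m t =>
        simp [MonoidAlgebra.single_mul_single, MonoidAlgebra.coeff_single, Finsupp.single_eq_of_ne, hna, Ne.symm hna]

theorem coeff_ev_diag [DecidableEq N] {B D : Type u} [CommRing B] [CommRing D] (γ : B →+* D)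
    (v : MonoidAlgebra B N) (a b : N) :
    (ev ((MonoidAlgebra.singleOneRingHom : D →+* MonoidAlgebra D (N × N)).comp γ)
      ((MonoidAlgebra.of D (N × N)).comp (MonoidHom.inl N N) *
        (MonoidAlgebra.of D (N × N)).comp (MonoidHom.inr N N)) v).coeff (a, b) =
      if a = b then γ (v.coeff a) else 0 := by
  induction v using MonoidAlgebra.induction_linear with
  | zero => simp
  | add x y hx hy => simp [hx, hy]; split_ifs <;> simp
  | single n r =>
    rw [ev_single]
    simp only [RingHom.comp_apply, MonoidHom.mul_apply, MonoidHom.comp_apply, MonoidHom.inl_apply,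
      MonoidHom.inr_apply, MonoidAlgebra.of_apply, MonoidAlgebra.single_mul_single, Prod.mk_mul_mk, mul_one,
      one_mul]
    rw [show (MonoidAlgebra.singleOneRingHom : D →+* MonoidAlgebra D (N × N)) (γ r) =
      MonoidAlgebra.single 1 (γ r) from rfl]
    simp only [MonoidAlgebra.single_mul_single, one_mul, mul_one, MonoidAlgebra.coeff_single]
    by_cases hab : a = b
    · subst hab
      by_cases hn : n = a
      · subst hn; simp
      · simp [Finsupp.single_eq_of_ne, Ne.symm hn, Prod.ext_iff]
    · rw [if_neg hab, Finsupp.single_eq_of_ne]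
      exact fun h => hab ((Prod.ext_iff.mp h).1.trans (Prod.ext_iff.mp h).2.symm)

theorem exists_cleared {R A A₂ A₅ : Type u} [CommRing R] [CommRing A] [CommRing A₂] [CommRing A₅]
    [Algebra R A] [Algebra.FiniteType R A] [Algebra A A₂] (f : A) [IsLocalization.Away f A₂]
    (r₅ : A₂ →+* A₅) (c : A →+* MonoidAlgebra A₂ N) (c' : A₂ →+* MonoidAlgebra A₅ N) (m : Ideal R)
    (hc0 : ∀ r : R, c (algebraMap R A r) = MonoidAlgebra.single 1 (algebraMap A A₂ (algebraMap R A r)))
    (hext : c'.comp (algebraMap A A₂) = (MonoidAlgebra.mapRingHom N r₅).comp c)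
    (hco : ∀ (x : A) (n : N), c' ((c x).coeff n) = MonoidAlgebra.single n (r₅ ((c x).coeff n)))
    (hmod : ∀ (x : A) (n : N), n ≠ 1 → (c x).coeff n ∈ m.map ((algebraMap A A₂).comp (algebraMap R A)))
    (hε : ∀ x : A, ev (RingHom.id A₂) 1 (c x) = algebraMap A A₂ x)
    (P : Ideal A₅) [P.IsPrime]
    (hP : m.map (r₅.comp ((algebraMap A A₂).comp (algebraMap R A))) ≤ P) :
    ∃ r ∉ P, ∀ (D : Type u) [CommRing D] (ψ : A₅ →+* D), IsUnit (ψ r) → ∀ x : A,
      MonoidAlgebra.mapRingHom N (ψ.comp r₅) (c x) = MonoidAlgebra.single 1 (ψ (r₅ (algebraMap A A₂ x))) := by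
  classical
  obtain ⟨s, hs⟩ := ‹Algebra.FiniteType R A›
  let ι : R →+* A₂ := (algebraMap A A₂).comp (algebraMap R A)
  let m₅ := m.map (r₅.comp ι)
  let T : Finset A₅ := s.biUnion fun x => ((c x).coeff.support.erase 1).image fun n => r₅ ((c x).coeff n)
  let J := Ideal.span (T : Set A₅)
  have hgen : ∀ x ∈ s, ∀ n : N, n ≠ 1 → r₅ ((c x).coeff n) ∈ J := fun x hx n hn => by
    by_cases h0 : n ∈ (c x).coeff.support
    · exact Ideal.subset_span (Finset.mem_biUnion.mpr ⟨x, hx,
        Finset.mem_image.mpr ⟨n, Finset.mem_erase.mpr ⟨hn, h0⟩, rfl⟩⟩)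
    · rw [Finsupp.notMem_support_iff.mp h0, map_zero]; exact J.zero_mem
  let q := Ideal.Quotient.mk J
  -- on `A` the coaction is constant modulo `J`
  let F₁ : A →+* MonoidAlgebra (A₅ ⧸ J) N := (MonoidAlgebra.mapRingHom N (q.comp r₅)).comp c
  let F₂ : A →+* MonoidAlgebra (A₅ ⧸ J) N :=
    MonoidAlgebra.singleOneRingHom.comp ((q.comp r₅).comp (algebraMap A A₂))
  have hbase : ∀ r : R, F₁ (algebraMap R A r) = F₂ (algebraMap R A r) := fun r => by
    simp [F₁, F₂, hc0]
  have hF : ∀ x : A, F₁ x = F₂ x := by
    intro x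
    have hx : x ∈ Algebra.adjoin R (s : Set A) := hs ▸ trivial
    induction hx using Algebra.adjoin_induction with
    | mem t ht =>
      have h1 : F₁ t = MonoidAlgebra.single 1 ((q.comp r₅) ((c t).coeff 1)) := by
        ext n
        by_cases hn : n = 1
        · subst hn; simp [F₁, MonoidAlgebra.coeff_single]
        · simp only [F₁, RingHom.comp_apply, MonoidAlgebra.coeff_mapRingHom,
            MonoidAlgebra.coeff_single, Finsupp.single_eq_of_ne hn]
          exact Ideal.Quotient.eq_zero_iff_mem.mpr (hgen t ht n hn)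
      have h2 : ev (RingHom.id (A₅ ⧸ J)) (1 : N →* A₅ ⧸ J) (F₁ t) =
          (q.comp r₅) (algebraMap A A₂ t) := by
        have hc : ∀ v : MonoidAlgebra A₂ N, ev (RingHom.id (A₅ ⧸ J)) (1 : N →* A₅ ⧸ J)
            (MonoidAlgebra.mapRingHom N (q.comp r₅) v) = (q.comp r₅) (ev (RingHom.id A₂) 1 v) := fun v => by
          induction v using MonoidAlgebra.induction_linear with
          | zero => simp
          | add a b ha hb => simp only [map_add, ha, hb]
          | single n b => simp
        simp only [F₁, RingHom.comp_apply] at hc ⊢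
        rw [hc, hε]
      rw [h1, ev_single, MonoidHom.one_apply, mul_one, RingHom.id_apply] at h2
      rw [h1, h2]
      rfl
    | algebraMap r => exact hbase r
    | add a b _ _ ha hb => rw [map_add, map_add, ha, hb]
    | mul a b _ _ ha hb => rw [map_mul, map_mul, ha, hb]
  -- hence on the localisation
  have hG : (MonoidAlgebra.mapRingHom N q).comp c' =
      (MonoidAlgebra.singleOneRingHom : A₅ ⧸ J →+* MonoidAlgebra (A₅ ⧸ J) N).comp (q.comp r₅) := by
    refine IsLocalization.ringHom_ext (Submonoid.powers f) ?_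
    rw [RingHom.comp_assoc, hext]
    refine RingHom.ext fun x => Eq.trans ?_ (hF x)
    simp only [F₁, RingHom.comp_apply]
    generalize c x = v
    induction v using MonoidAlgebra.induction_linear with
    | zero => simp
    | add a b ha hb => simp only [map_add, ha, hb]
    | single n b => simp
  have hJ : ∀ (y : A₂) (n : N), n ≠ 1 → (c' y).coeff n ∈ J := fun y n hn => by
    have := congrArg (fun v => MonoidAlgebra.coeff v n) (RingHom.congr_fun hG y)
    simp only [RingHom.comp_apply, MonoidAlgebra.coeff_mapRingHom, Finsupp.mapRange_apply] at this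
    rw [← Ideal.Quotient.eq_zero_iff_mem]
    rw [this]
    exact Finsupp.single_eq_of_ne hn
  -- the base is fixed
  have hι : ∀ r : R, c' (ι r) = MonoidAlgebra.single 1 (r₅ (ι r)) := fun r => by
    have := RingHom.congr_fun hext (algebraMap R A r)
    simp only [RingHom.comp_apply, hc0, MonoidAlgebra.mapRingHom_single] at this
    exact this
  have hmJ : ∀ (n : N), n ≠ 1 → ∀ v ∈ m.map ι, (c' v).coeff n ∈ m₅ * J := by
    intro n hn v hv
    suffices h : ∀ y, (c' (y * v)).coeff n ∈ m₅ * J by simpa using h 1
    induction hv using Submodule.span_induction with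
    | mem w hw =>
      obtain ⟨r, hr, rfl⟩ := hw
      intro y
      have h2 : (c' (y * ι r)).coeff n = r₅ (ι r) * (c' y).coeff n := by
        rw [map_mul, hι, MonoidAlgebra.coeff_mul_single_apply, inv_one, mul_one, mul_comm]
      rw [h2]
      exact Ideal.mul_mem_mul (Ideal.mem_map_of_mem (r₅.comp ι) hr) (hJ y n hn)
    | zero => intro y; simp
    | add a b _ _ ha hb =>
      intro y
      rw [mul_add, map_add, MonoidAlgebra.coeff_add, Finsupp.add_apply]
      exact add_mem (ha y) (hb y)
    | smul e a _ ha => intro y; rw [smul_eq_mul, ← mul_assoc]; exact ha _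
  have hle : J ≤ m₅ • J := by
    rw [smul_eq_mul]
    refine Ideal.span_le.mpr fun t ht => ?_
    obtain ⟨x, -, hx⟩ := Finset.mem_biUnion.mp ht
    obtain ⟨n, hn, rfl⟩ := Finset.mem_image.mp hx
    have hn1 := (Finset.mem_erase.mp hn).1
    have h := hmJ n hn1 _ (hmod x n hn1)
    rw [hco, MonoidAlgebra.coeff_single, Finsupp.single_eq_same] at h
    exact h
  obtain ⟨r, hr, hrJ⟩ := Submodule.exists_sub_one_mem_and_smul_eq_zero_of_fg_of_le_smul m₅ J ⟨T, rfl⟩ hle
  refine ⟨r, fun h => ‹P.IsPrime›.ne_top ((Ideal.eq_top_iff_one P).mpr ?_), fun D _ ψ hψ x => ?_⟩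
  · have := P.sub_mem h (hP hr)
    rwa [sub_sub_cancel] at this
  · have hker : ∀ a ∈ J, ψ a = 0 := fun a ha => by
      have := congrArg ψ (hrJ a ha)
      rw [smul_eq_mul, map_mul, map_zero] at this
      exact hψ.mul_right_eq_zero.mp this
    let ψ' : A₅ ⧸ J →+* D := Ideal.Quotient.lift J ψ hker
    have := congrArg (MonoidAlgebra.mapRingHom N ψ') (hF x)
    simp only [F₁, F₂, RingHom.comp_apply] at this
    refine Eq.trans ?_ (this.trans (by simp [ψ', q]))
    generalize c x = v
    induction v using MonoidAlgebra.induction_linear with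
    | zero => simp
    | add a b ha hb => simp only [map_add, ha, hb]
    | single n b => simp [ψ', q]

end Groth.Agent.H21Fix
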