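import Groth.Agent.H21Fix.TorusFixed

/-!
Conjugation action on a normalised subgroup; fixed points and centralizers.
-/

set_option autoImplicit false
set_option linter.style.haveILetI false
set_option backward.isDefEq.respectTransparency false
set_option synthInstance.maxHeartbeats 400000

universe u

open CategoryTheory CategoryTheory.Limits MonoidalCategory CartesianMonoidalCategory MonObj GrpObj AlgebraicGeometry

namespace Groth.Agent.H21Fix

variable {S : Scheme.{u}} {G Q H : Over S} [GrpObj G] [GrpObj Q] [GrpObj H]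

/-- conjugation by `Q` on a subgroup it normalises -/
theorem exists_conj_action (i : Q ⟶ G) [IsMonHom i] (j : H ⟶ G) [IsMonHom j] [Mono j]
    (hnorm : ∀ (X : Over S) (q : X ⟶ Q) (h : X ⟶ H), ∃ h' : X ⟶ H, (q ≫ i) * (h ≫ j) * (q ≫ i)⁻¹ = h' ≫ j) :
    ∃ a : AlgGrp.Action Q H,
      (∀ (X : Over S) (q : X ⟶ Q) (h : X ⟶ H), (lift q h ≫ a.act) ≫ j = (q ≫ i) * (h ≫ j) * (q ≫ i)⁻¹) ∧
      ∀ (X : Over S) (q : X ⟶ Q) (h h' : X ⟶ H),
        lift q (h * h') ≫ a.act = (lift q h ≫ a.act) * (lift q h' ≫ a.act) := by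
  obtain ⟨act, hact⟩ := hnorm (Q ⊗ H) (fst Q H) (snd Q H)
  have key : ∀ {X : Over S} (q : X ⟶ Q) (h : X ⟶ H), (lift q h ≫ act) ≫ j = (q ≫ i) * (h ≫ j) * (q ≫ i)⁻¹ := by
    intro X q h
    rw [Category.assoc, ← hact, MonObj.comp_mul, MonObj.comp_mul, GrpObj.comp_inv, lift_fst_assoc, lift_snd_assoc]
  refine ⟨⟨act, ?_, ?_⟩, fun X q h => key q h, fun X q h h' => ?_⟩
  · have e : (λ_ H).hom = snd _ _ := leftUnitor_hom H
    refine (cancel_mono j).mp ?_
    rw [e, show η[Q] ▷ H = lift (fst _ _ ≫ η[Q]) (snd _ _) by ext <;> simp, key, Category.assoc,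
      show η[Q] ≫ i = η[G] from IsMonHom.one_hom i,
      show fst (𝟙_ (Over S)) H ≫ η[G] = 1 by rw [Hom.one_def, toUnit_unique (fst (𝟙_ (Over S)) H) (toUnit _)],
      inv_one, _root_.mul_one, _root_.one_mul]
  · have e : (α_ Q Q H).hom ≫ Q ◁ act = lift (fst _ _ ≫ fst Q Q)
        (lift (fst _ _ ≫ snd Q Q) (snd _ _) ≫ act) := by
      refine CartesianMonoidalCategory.hom_ext _ _ (by simp) ?_
      rw [Category.assoc, whiskerLeft_snd, ← Category.assoc, lift_snd]
      congr 1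
      ext <;> simp
    refine (cancel_mono j).mp ?_
    rw [show μ[Q] ▷ H = lift (fst _ _ ≫ μ[Q]) (snd _ _) by ext <;> simp, key,
      ← Category.assoc (α_ Q Q H).hom, e, key, key,
      show fst (Q ⊗ Q) H ≫ μ[Q] = (fst _ _ ≫ fst Q Q) * (fst _ _ ≫ snd Q Q) by
        rw [← MonObj.comp_mul, MonObj.mul_eq_mul], MonObj.mul_comp]
    group
  · refine (cancel_mono j).mp ?_
    simp only at *
    rw [key, MonObj.mul_comp, MonObj.mul_comp, key, key]
    group

omit [GrpObj H] in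
/-- a monomorphism with the universal property of the fixed locus is the fixed locus -/
theorem exists_iso_fixedLocus {a : AlgGrp.Action Q H} {Z Z' : Over S} (z : Z ⟶ H) (z' : Z' ⟶ H) [Mono z] [Mono z']
    (hZ : IsFixedLocusOver a z) (hZ' : IsFixedLocusOver a z') : ∃ e : Z ≅ Z', e.hom ≫ z' = z := by
  obtain ⟨w, hw⟩ := (hZ' Z z).mpr ((hZ Z z).mp ⟨𝟙 _, Category.id_comp _⟩)
  obtain ⟨w', hw'⟩ := (hZ Z' z').mpr ((hZ' Z' z').mp ⟨𝟙 _, Category.id_comp _⟩)
  exact ⟨⟨w, w', (cancel_mono z).mp (by rw [Category.assoc, hw', hw, Category.id_comp]),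
    (cancel_mono z').mp (by rw [Category.assoc, hw, hw', Category.id_comp])⟩, hw⟩

end Groth.Agent.H21Fix
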