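import Groth.Agent.H21Fix.Points
import Groth.Agent.H21Fix.Clearing

/-!
A finite diagonalisable group acting trivially over a closed subscheme of an affine base fixes an open
neighbourhood of every point over that closed subscheme. Neither separatedness nor finiteness of the base is needed.
-/

set_option autoImplicit false
set_option linter.style.haveILetI false
set_option backward.isDefEq.respectTransparency false
set_option maxHeartbeats 1000000

universe u

open CategoryTheory MonoidalCategory CartesianMonoidalCategory MonObj GrpObj AlgebraicGeometry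
open CategoryTheory.Limits
open Groth.Agent.H21Diag

namespace Groth.Agent.H21Fix

/-- a finite group algebra is integral over the coefficients -/
theorem isClosedMap_comap_single (B : Type u) [CommRing B] (N : Type) [CommGroup N] [Finite N] :
    IsClosedMap (Spec.map (CommRingCat.ofHom
      (MonoidAlgebra.singleOneRingHom : B →+* MonoidAlgebra B N))).base := by
  have : Module.Finite B (MonoidAlgebra B N) := Module.Finite.equiv (MonoidAlgebra.coeffLinearEquiv B).symm
  refine PrimeSpectrum.isClosedMap_comap_of_isIntegral _ ?_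
  exact (algebraMap_isIntegral_iff (R := B) (A := MonoidAlgebra B N)).mpr inferInstance

/-- a prime avoiding the image of a closed set missing its fibre has a basic neighbourhood doing so -/
theorem exists_basicOpen_avoid (B : Type u) [CommRing B] (N : Type) [CommGroup N] [Finite N]
    (Z : Set (PrimeSpectrum (MonoidAlgebra B N))) (hZ : IsClosed Z) (P : PrimeSpectrum B)
    (hP : ∀ q : PrimeSpectrum (MonoidAlgebra B N), q.comap (MonoidAlgebra.singleOneRingHom) = P → q ∉ Z) :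
    ∃ f : B, f ∉ P.asIdeal ∧ ∀ q : PrimeSpectrum (MonoidAlgebra B N),
      MonoidAlgebra.singleOneRingHom f ∉ q.asIdeal → q ∉ Z := by
  have hc := isClosedMap_comap_single B N Z hZ
  have hPn : P ∈ ((Spec.map (CommRingCat.ofHom
      (MonoidAlgebra.singleOneRingHom : B →+* MonoidAlgebra B N))).base '' Z)ᶜ := by
    rintro ⟨q, hq, hqP⟩
    exact hP q hqP hq
  obtain ⟨_, ⟨_, ⟨f, rfl⟩, rfl⟩, hf, hsub⟩ :=
    PrimeSpectrum.isBasis_basic_opens.exists_subset_of_mem_open hPn hc.isOpen_compl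
  exact ⟨f, hf, fun q hq hqZ => hsub (show (q.comap _) ∈ PrimeSpectrum.basicOpen f from hq) ⟨q, hqZ, rfl⟩⟩

theorem exists_factor_basicOpen {A A₅ D : Type u} [CommRing A] [CommRing A₅] [CommRing D] (r' : A →+* A₅)
    [IsOpenImmersion (Spec.map (CommRingCat.ofHom r'))] (r : A₅) (φ : A →+* D)
    (hφ : Set.range (Spec.map (CommRingCat.ofHom φ)).base ⊆
      ((Spec.map (CommRingCat.ofHom r')) ''ᵁ PrimeSpectrum.basicOpen r : (Spec (CommRingCat.of A)).Opens)) :
    ∃ ψ : A₅ →+* D, φ = ψ.comp r' ∧ IsUnit (ψ r) := by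
  let V := Spec.map (CommRingCat.ofHom r')
  have hr' : Set.range (Spec.map (CommRingCat.ofHom φ)).base ⊆ Set.range V.base :=
    hφ.trans (by rintro _ ⟨z, -, rfl⟩; exact ⟨z, rfl⟩)
  obtain ⟨ψ₀, hψ₀⟩ := Spec.map_surjective (IsOpenImmersion.lift V _ hr')
  refine ⟨ψ₀.hom, congrArg CommRingCat.Hom.hom (Spec.map_injective (by
    rw [specMap_comp, CommRingCat.ofHom_hom, hψ₀, IsOpenImmersion.lift_fac]) :
      CommRingCat.ofHom φ = CommRingCat.ofHom (ψ₀.hom.comp r')), ?_⟩
  by_contra hn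
  obtain ⟨q, hqm, hqf⟩ := Ideal.exists_le_maximal _ (Ideal.span_singleton_eq_top.not.mpr hn)
  let qq : PrimeSpectrum D := ⟨q, hqm.isPrime⟩
  obtain ⟨z, hz, hze⟩ := hφ ⟨qq, rfl⟩
  have : z = (Spec.map ψ₀).base qq := V.isOpenEmbedding.injective (by
    refine hze.trans ?_
    rw [hψ₀]
    exact (congrArg (fun m : Spec (CommRingCat.of D) ⟶ Spec (CommRingCat.of A) => m.base qq)
      (IsOpenImmersion.lift_fac V _ hr')).symm)
  subst this
  exact hz (hqf (Ideal.subset_span rfl))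

variable {S U : Scheme.{u}} {u₀ : U ⟶ S} {G X : Over S} [GrpObj G] {M : Type} [AddCommGroup M]
  (e : Grp.mk (Red.bc u₀ G) ≅ Grp.mk (Red.DS U M)) (a : AlgGrp.Action G X)
  {R : Type u} [CommRing R] (y : Spec (CommRingCat.of R) ⟶ U)

section chart

variable {N : Type} [CommGroup N] (p : Multiplicative M →* N) {A : Type u} [CommRing A] [Algebra R A]
  (j : Spec (CommRingCat.of A) ⟶ XP (X := X) (u₀ := u₀) y)
  (hj : j ≫ pullback.snd _ _ = Spec.map (CommRingCat.ofHom (algebraMap R A)))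

include hj in
theorem pt_snd {D : Type u} [CommRing D] (φ : A →+* D) :
    (Spec.map (CommRingCat.ofHom φ) ≫ j) ≫ pullback.snd _ _ =
      Spec.map (CommRingCat.ofHom (φ.comp (algebraMap R A))) := by
  rw [Category.assoc, hj, ← specMap_comp]

/-- the action of the finite quotient on a point of the chart -/
noncomputable def actN {D : Type u} [CommRing D] (φ : A →+* D) (χ : N →* D) :
    Spec (CommRingCat.of D) ⟶ XP (X := X) (u₀ := u₀) y :=
  actP e a y (φ.comp (algebraMap R A)) (χ.comp p) (Spec.map (CommRingCat.ofHom φ) ≫ j) (pt_snd y j hj φ)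

theorem actN_comp {D D' : Type u} [CommRing D] [CommRing D'] (φ : A →+* D) (χ : N →* D) (θ : D →+* D') :
    Spec.map (CommRingCat.ofHom θ) ≫ actN e a y p j hj φ χ = actN e a y p j hj (θ.comp φ) (θ.toMonoidHom.comp χ) :=
  (actP_comp e a y _ _ _ _ θ).trans (actP_congr e a y rfl rfl (specMap_comp_assoc φ θ j))

theorem actN_snd {D : Type u} [CommRing D] (φ : A →+* D) (χ : N →* D) :
    actN e a y p j hj φ χ ≫ pullback.snd _ _ = Spec.map (CommRingCat.ofHom (φ.comp (algebraMap R A))) :=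
  actP_snd e a y _ _ _ _

theorem actN_univ {D : Type u} [CommRing D] (φ : A →+* D) (χ : N →* D) :
    Spec.map (CommRingCat.ofHom (ev φ χ)) ≫
      actN e a y p j hj (MonoidAlgebra.singleOneRingHom : A →+* MonoidAlgebra A N) (MonoidAlgebra.of A N) =
      actN e a y p j hj φ χ := by
  rw [actN_comp]
  congr 1
  · exact RingHom.ext fun x => by simp
  · exact MonoidHom.ext fun n => by simp

theorem actN_eq_self {m : Ideal R} (h : Triv e a y m) {D : Type u} [CommRing D] (φ : A →+* D) (χ : N →* D)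
    (hm : m.map (φ.comp (algebraMap R A)) = ⊥) :
    actN e a y p j hj φ χ = Spec.map (CommRingCat.ofHom φ) ≫ j :=
  actP_eq_self e a y h _ hm _ _ _

theorem actN_one {D : Type u} [CommRing D] (φ : A →+* D) :
    actN e a y p j hj φ 1 = Spec.map (CommRingCat.ofHom φ) ≫ j :=
  (actP_congr e a y rfl (MonoidHom.one_comp p) rfl).trans
    (actP_one e a y (φ.comp (algebraMap R A)) _ (pt_snd y j hj φ))

theorem actN_mul {D : Type u} [CommRing D] (φ φ' : A →+* D) (χ χ' : N →* D)
    (hg : φ'.comp (algebraMap R A) = φ.comp (algebraMap R A))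
    (h : actN e a y p j hj φ χ' = Spec.map (CommRingCat.ofHom φ') ≫ j) :
    actN e a y p j hj φ (χ * χ') = actN e a y p j hj φ' χ := by
  refine (actP_congr e a y rfl (MonoidHom.mul_comp χ χ' p) rfl (hw' := pt_snd y j hj φ)).trans ?_
  exact (actP_mul e a y _ _ _ _ _).trans (actP_congr e a y hg.symm rfl h)

theorem coeff_mem_of_triv [IsOpenImmersion j] {m : Ideal R} (h : Triv e a y m) {A₂ : Type u} [CommRing A₂]
    (r₂ : A →+* A₂) (c : A →+* MonoidAlgebra A₂ N)
    (hck : ∀ {D : Type u} [CommRing D] (ψ : A₂ →+* D) (χ : N →* D),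
      actN e a y p j hj (ψ.comp r₂) χ = Spec.map (CommRingCat.ofHom ((ev ψ χ).comp c)) ≫ j)
    (x : A) (n : N) (hn : n ≠ 1) : (c x).coeff n ∈ m.map (r₂.comp (algebraMap R A)) := by
  classical
  generalize hI : m.map (r₂.comp (algebraMap R A)) = I
  let q : A₂ →+* A₂ ⧸ I := Ideal.Quotient.mk I
  let ψ : A₂ →+* MonoidAlgebra (A₂ ⧸ I) N :=
    (MonoidAlgebra.singleOneRingHom : A₂ ⧸ I →+* MonoidAlgebra (A₂ ⧸ I) N).comp q
  have hm : m.map ((ψ.comp r₂).comp (algebraMap R A)) = ⊥ := by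
    rw [eq_bot_iff, Ideal.map_le_iff_le_comap]
    intro v hv
    have h0 : q (r₂ (algebraMap R A v)) = 0 :=
      Ideal.Quotient.eq_zero_iff_mem.mpr (hI ▸ Ideal.mem_map_of_mem (r₂.comp (algebraMap R A)) hv)
    rw [Ideal.mem_comap, Ideal.mem_bot]
    simp only [ψ, RingHom.comp_apply, h0, map_zero]
  have h0 : Spec.map (CommRingCat.ofHom ((ev ψ (MonoidAlgebra.of (A₂ ⧸ I) N)).comp c)) ≫ j =
      Spec.map (CommRingCat.ofHom (ψ.comp r₂)) ≫ j :=
    (hck ψ _).symm.trans (actN_eq_self e a y p j hj h _ _ hm)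
  have h1 : (ev ψ (MonoidAlgebra.of (A₂ ⧸ I) N)).comp c = ψ.comp r₂ :=
    congrArg CommRingCat.Hom.hom (Spec.map_injective ((cancel_mono j).mp h0))
  have he : ev ψ (MonoidAlgebra.of (A₂ ⧸ I) N) = MonoidAlgebra.mapRingHom N q :=
    MonoidAlgebra.ringHom_ext (fun b => by simp [ψ]) fun k => by simp [ψ]
  have h2 := congrArg (fun v => MonoidAlgebra.coeff v n) (RingHom.congr_fun h1 x)
  rw [he] at h2
  simp only [RingHom.comp_apply, MonoidAlgebra.coeff_mapRingHom, ψ] at h2
  exact Ideal.Quotient.eq_zero_iff_mem.mp (h2.trans (Finsupp.single_eq_of_ne hn))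

theorem coassoc_of_action [IsOpenImmersion j] {A₂ A₅ : Type u} [CommRing A₂] [CommRing A₅]
    (r₂ : A →+* A₂) (r₅ : A₂ →+* A₅) (c : A →+* MonoidAlgebra A₂ N) (c' : A₂ →+* MonoidAlgebra A₅ N)
    (hck : ∀ {D : Type u} [CommRing D] (ψ : A₂ →+* D) (χ : N →* D),
      actN e a y p j hj (ψ.comp r₂) χ = Spec.map (CommRingCat.ofHom ((ev ψ χ).comp c)) ≫ j)
    (hc0 : ∀ r : R, c (algebraMap R A r) = MonoidAlgebra.single 1 (r₂ (algebraMap R A r)))
    (hext : c'.comp r₂ = (MonoidAlgebra.mapRingHom N r₅).comp c)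
    (x : A) (n : N) : c' ((c x).coeff n) = MonoidAlgebra.single n (r₅ ((c x).coeff n)) := by
  classical
  let sD : A₅ →+* MonoidAlgebra A₅ (N × N) := MonoidAlgebra.singleOneRingHom
  let χ₁ : N →* MonoidAlgebra A₅ (N × N) := (MonoidAlgebra.of A₅ (N × N)).comp (MonoidHom.inl N N)
  let χ₂ : N →* MonoidAlgebra A₅ (N × N) := (MonoidAlgebra.of A₅ (N × N)).comp (MonoidHom.inr N N)
  let Γ : A₂ →+* MonoidAlgebra A₅ (N × N) := (MonoidAlgebra.mapDomainRingHom A₅ (MonoidHom.inr N N)).comp c'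
  have hΓ : Γ.comp r₂ = (ev (sD.comp r₅) χ₂).comp c := by
    rw [RingHom.comp_assoc, hext, ← RingHom.comp_assoc]
    congr 1
    exact MonoidAlgebra.ringHom_ext (fun b => by simp [sD, Prod.mk_one_one]) fun k => by simp [χ₂, sD]
  have hΓg : (Γ.comp r₂).comp (algebraMap R A) = ((sD.comp r₅).comp r₂).comp (algebraMap R A) := by
    rw [hΓ]; exact RingHom.ext fun r => by simp [hc0]
  have h1 : actN e a y p j hj ((sD.comp r₅).comp r₂) (χ₁ * χ₂) = actN e a y p j hj (Γ.comp r₂) χ₁ := by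
    refine actN_mul e a y p j hj _ _ χ₁ χ₂ hΓg ((hck _ _).trans ?_)
    rw [hΓ]
  have h2 : Spec.map (CommRingCat.ofHom ((ev (sD.comp r₅) (χ₁ * χ₂)).comp c)) ≫ j =
      Spec.map (CommRingCat.ofHom ((ev Γ χ₁).comp c)) ≫ j := (hck _ _).symm.trans (h1.trans (hck Γ χ₁))
  have h2' : (ev (sD.comp r₅) (χ₁ * χ₂)).comp c = (ev Γ χ₁).comp c :=
    congrArg CommRingCat.Hom.hom (Spec.map_injective ((cancel_mono j).mp h2))
  have h3 := fun a' b' => congrArg (fun v => MonoidAlgebra.coeff v (a', b')) (RingHom.congr_fun h2' x)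
  simp only [RingHom.comp_apply, χ₁, χ₂, sD, Γ, coeff_ev_inl, coeff_ev_diag] at h3
  ext k
  rw [← h3 n k, MonoidAlgebra.coeff_single]
  by_cases hnk : n = k
  · subst hnk; rw [if_pos rfl, Finsupp.single_eq_same]
  · rw [if_neg hnk, Finsupp.single_eq_of_ne (Ne.symm hnk)]

theorem exists_avoid_zero [IsOpenImmersion j] [Finite N] {m : Ideal R} (h : Triv e a y m) {A₂ : Type u}
    [CommRing A₂] (r₂ : A →+* A₂) (c : A →+* MonoidAlgebra A₂ N)
    (hck : ∀ {D : Type u} [CommRing D] (ψ : A₂ →+* D) (χ : N →* D),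
      actN e a y p j hj (ψ.comp r₂) χ = Spec.map (CommRingCat.ofHom ((ev ψ χ).comp c)) ≫ j)
    (f : A) (hf : IsUnit (r₂ f)) (P₂ : Ideal A₂) [hP₂ : P₂.IsPrime]
    (hmP₂ : m.map (r₂.comp (algebraMap R A)) ≤ P₂) :
    ∃ g : A₂, g ∉ P₂ ∧ ∀ q : PrimeSpectrum (MonoidAlgebra A₂ N),
      MonoidAlgebra.singleOneRingHom g ∉ q.asIdeal → q ∉ PrimeSpectrum.zeroLocus {c f} := by
  refine exists_basicOpen_avoid A₂ N (PrimeSpectrum.zeroLocus {c f}) (PrimeSpectrum.isClosed_zeroLocus _)
    ⟨P₂, hP₂⟩ fun q hq hqZ => ?_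
  have h1 : c f ∈ q.asIdeal := hqZ rfl
  let s₂ : A₂ →+* MonoidAlgebra A₂ N := MonoidAlgebra.singleOneRingHom
  have hPq : ∀ v ∈ P₂, s₂ v ∈ q.asIdeal := fun v hv => by
    have := congrArg PrimeSpectrum.asIdeal hq
    exact (show v ∈ (PrimeSpectrum.comap MonoidAlgebra.singleOneRingHom q).asIdeal from this ▸ hv)
  let θ : MonoidAlgebra A₂ N →+* MonoidAlgebra A₂ N ⧸ q.asIdeal := Ideal.Quotient.mk q.asIdeal
  have hm : m.map (((θ.comp s₂).comp r₂).comp (algebraMap R A)) = ⊥ := by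
    rw [RingHom.comp_assoc, ← Ideal.map_map, eq_bot_iff, Ideal.map_le_iff_le_comap]
    exact fun v hv => Ideal.mem_bot.mpr (Ideal.Quotient.eq_zero_iff_mem.mpr (hPq v (hmP₂ hv)))
  let χ : N →* MonoidAlgebra A₂ N ⧸ q.asIdeal := θ.toMonoidHom.comp (MonoidAlgebra.of A₂ N)
  have h2 : Spec.map (CommRingCat.ofHom ((ev (θ.comp s₂) χ).comp c)) ≫ j =
      Spec.map (CommRingCat.ofHom ((θ.comp s₂).comp r₂)) ≫ j :=
    (hck _ _).symm.trans (actN_eq_self e a y p j hj h _ _ hm)
  have h2' : (ev (θ.comp s₂) χ).comp c = (θ.comp s₂).comp r₂ :=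
    congrArg CommRingCat.Hom.hom (Spec.map_injective ((cancel_mono j).mp h2))
  have he : ev (θ.comp s₂) χ = θ := MonoidAlgebra.ringHom_ext
    (fun b => by simp [s₂, χ, ← map_mul, MonoidAlgebra.single_mul_single])
    fun k => by simp [s₂, χ, ← map_mul, MonoidAlgebra.single_mul_single]
  rw [he] at h2'
  have h3 : θ (c f) = θ (s₂ (r₂ f)) := RingHom.congr_fun h2' f
  rw [Ideal.Quotient.eq_zero_iff_mem.mpr h1] at h3
  have hu : IsUnit (θ (s₂ (r₂ f))) := (hf.map s₂).map θ
  rw [← h3] at hu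
  have : q.asIdeal.IsPrime := q.isPrime
  exact not_isUnit_zero hu

theorem exists_coaction [IsOpenImmersion j] [Finite N] {m : Ideal R} (h : Triv e a y m) (P : PrimeSpectrum A)
    (hP : m.map (algebraMap R A) ≤ P.asIdeal) :
    ∃ f : A, f ∉ P.asIdeal ∧ ∃ c : A →+* MonoidAlgebra (Localization.Away f) N,
      (∀ (D : Type u) [CommRing D] (ψ : Localization.Away f →+* D) (χ : N →* D),
        actN e a y p j hj (ψ.comp (algebraMap A (Localization.Away f))) χ =
          Spec.map (CommRingCat.ofHom ((ev ψ χ).comp c)) ≫ j) ∧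
      ∀ r : R, c (algebraMap R A r) =
        MonoidAlgebra.single 1 (algebraMap A (Localization.Away f) (algebraMap R A r)) := by
  classical
  let i₁ : A →+* MonoidAlgebra A N := MonoidAlgebra.singleOneRingHom
  let w := actN e a y p j hj i₁ (MonoidAlgebra.of A N)
  have hnat := @actN_comp _ _ _ _ _ _ _ _ e a _ _ y _ _ p _ _ _ j hj
  have hw := @actN_univ _ _ _ _ _ _ _ _ e a _ _ y _ _ p _ _ _ j hj
  have hmw := @actN_eq_self _ _ _ _ _ _ _ _ e a _ _ y _ _ p _ _ _ j hj _ h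
  -- where it lands in the chart
  obtain ⟨f, hfP, hf⟩ := exists_basicOpen_avoid A N (w.base ⁻¹' (Set.range j.base)ᶜ)
    (j.isOpenEmbedding.isOpen_range.isClosed_compl.preimage w.continuous) P fun q hq hqZ => by
      let θ : MonoidAlgebra A N →+* MonoidAlgebra A N ⧸ q.asIdeal := Ideal.Quotient.mk _
      have hm : m.map ((θ.comp i₁).comp (algebraMap R A)) = ⊥ := by
        rw [← Ideal.map_map, ← Ideal.map_map, Ideal.map_eq_bot_iff_le_ker, Ideal.mk_ker, Ideal.map_le_iff_le_comap]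
        refine hP.trans ?_
        rw [← hq]
        exact le_rfl
      have h1 : Spec.map (CommRingCat.ofHom θ) ≫ w = Spec.map (CommRingCat.ofHom (θ.comp i₁)) ≫ j := by
        rw [hnat]; exact hmw _ _ hm
      have : q.asIdeal.IsPrime := q.isPrime
      let z : PrimeSpectrum (MonoidAlgebra A N ⧸ q.asIdeal) := ⟨⊥, Ideal.isPrime_bot⟩
      have hz : (Spec.map (CommRingCat.ofHom θ)).base z = q := PrimeSpectrum.ext
        (show (⊥ : Ideal _).comap θ = q.asIdeal from Ideal.mk_ker)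
      refine hqZ ⟨(Spec.map (CommRingCat.ofHom (θ.comp i₁))).base z, ?_⟩
      rw [← Scheme.Hom.comp_apply, ← h1, Scheme.Hom.comp_apply, hz]
  let A₂ := Localization.Away f
  let r₂ := algebraMap A A₂
  let ρ := MonoidAlgebra.mapRingHom N r₂
  have hρ : ev (MonoidAlgebra.singleOneRingHom.comp r₂) (MonoidAlgebra.of A₂ N) = ρ :=
    MonoidAlgebra.ringHom_ext (fun b => by simp [ρ]) fun n => by simp [ρ]
  have hrange : Set.range (Spec.map (CommRingCat.ofHom ρ) ≫ w).base ⊆ Set.range j.base := by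
    rintro _ ⟨q, rfl⟩
    by_contra hq
    refine hf ((Spec.map (CommRingCat.ofHom ρ)).base q) ?_ hq
    change ¬ ρ (MonoidAlgebra.singleOneRingHom f) ∈ q.asIdeal
    intro hmem
    refine q.isPrime.ne_top (Ideal.eq_top_of_isUnit_mem _ hmem ?_)
    have : IsUnit (r₂ f) := IsLocalization.Away.algebraMap_isUnit f
    simpa [ρ] using this.map (MonoidAlgebra.singleOneRingHom : A₂ →+* MonoidAlgebra A₂ N)
  obtain ⟨c₀, hc₀⟩ := Spec.map_surjective (IsOpenImmersion.lift j _ hrange)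
  let c : A →+* MonoidAlgebra A₂ N := c₀.hom
  have hc : Spec.map (CommRingCat.ofHom c) ≫ j = Spec.map (CommRingCat.ofHom ρ) ≫ w := by
    rw [CommRingCat.ofHom_hom, hc₀, IsOpenImmersion.lift_fac]
  refine ⟨f, hfP, c, fun D _ ψ χ => ?_, fun r => ?_⟩
  · rw [specMap_comp, Category.assoc, hc, specMap_comp_assoc, ← hw]
    congr 3
    exact MonoidAlgebra.ringHom_ext (fun b => by simp [ρ, r₂, A₂]) fun n => by simp [ρ, r₂, A₂]
  · have h1 := congrArg (· ≫ pullback.snd _ _) hc
    simp only [Category.assoc, hj, w, actN_snd, ← specMap_comp] at h1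
    have h2 := RingHom.congr_fun (congrArg CommRingCat.Hom.hom (Spec.map_injective h1)) r
    simpa [ρ, r₂, i₁] using h2

/-- the neighbourhood, given the coaction on two localisations -/
theorem nhd_of_coaction [IsOpenImmersion j] [Algebra.FiniteType R A] {m : Ideal R} (h : Triv e a y m)
    {A₂ A₅ : Type u} [CommRing A₂] [CommRing A₅] [Algebra A A₂] (f : A) [IsLocalization.Away f A₂]
    (r₅ : A₂ →+* A₅) (c : A →+* MonoidAlgebra A₂ N) (c' : A₂ →+* MonoidAlgebra A₅ N)
    (hext : c'.comp (algebraMap A A₂) = (MonoidAlgebra.mapRingHom N r₅).comp c)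
    (hck : ∀ (D : Type u) [CommRing D] (ψ : A₂ →+* D) (χ : N →* D),
      actN e a y p j hj (ψ.comp (algebraMap A A₂)) χ = Spec.map (CommRingCat.ofHom ((ev ψ χ).comp c)) ≫ j)
    (hc0 : ∀ r : R, c (algebraMap R A r) = MonoidAlgebra.single 1 (algebraMap A A₂ (algebraMap R A r)))
    [IsOpenImmersion (Spec.map (CommRingCat.ofHom (r₅.comp (algebraMap A A₂))))]
    (P₅ : Ideal A₅) [hP₅ : P₅.IsPrime]
    (hmP : m.map (r₅.comp ((algebraMap A A₂).comp (algebraMap R A))) ≤ P₅) :
    ∃ W : (Spec (CommRingCat.of A)).Opens,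
      PrimeSpectrum.comap (r₅.comp (algebraMap A A₂)) ⟨P₅, hP₅⟩ ∈ W ∧ ∀ (D : Type u) [CommRing D] (φ : A →+* D),
      Set.range (Spec.map (CommRingCat.ofHom φ)).base ⊆ (W : Set (Spec (CommRingCat.of A))) →
      ∀ (χ : N →* D), actN e a y p j hj φ χ = Spec.map (CommRingCat.ofHom φ) ≫ j := by
  classical
  let r₂ : A →+* A₂ := algebraMap A A₂
  have hck' : ∀ {D : Type u} [CommRing D] (ψ : A₂ →+* D) (χ : N →* D),
      actN e a y p j hj (ψ.comp r₂) χ = Spec.map (CommRingCat.ofHom ((ev ψ χ).comp c)) ≫ j :=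
    fun {D} _ ψ χ => hck D ψ χ
  have hε : ∀ x, ev (RingHom.id A₂) 1 (c x) = r₂ x := fun x => by
    have h1 : Spec.map (CommRingCat.ofHom ((ev (RingHom.id A₂) (1 : N →* A₂)).comp c)) ≫ j =
        Spec.map (CommRingCat.ofHom ((RingHom.id A₂).comp r₂)) ≫ j :=
      (hck' _ _).symm.trans (actN_one e a y p j hj _)
    exact RingHom.congr_fun (congrArg CommRingCat.Hom.hom (Spec.map_injective ((cancel_mono j).mp h1))) x
  obtain ⟨r, hr, hclear⟩ := exists_cleared f r₅ c c' m hc0 hext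
    (coassoc_of_action e a y p j hj r₂ r₅ c c' hck' hc0 hext)
    (coeff_mem_of_triv e a y p j hj h r₂ c hck') hε P₅ hmP
  refine ⟨(Spec.map (CommRingCat.ofHom (r₅.comp r₂))) ''ᵁ PrimeSpectrum.basicOpen r, ⟨⟨P₅, hP₅⟩, hr, rfl⟩,
    fun D _ φ hφ χ => ?_⟩
  obtain ⟨ψ₀, hψ, hu⟩ := exists_factor_basicOpen (r₅.comp r₂) r φ hφ
  subst hψ
  refine (hck' (ψ₀.comp r₅) χ).trans (congrArg (fun t => Spec.map (CommRingCat.ofHom t) ≫ j) ?_)
  refine RingHom.ext fun x => ?_
  have h1 := congrArg (ev (RingHom.id D) χ) (hclear D ψ₀ hu x)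
  rw [ev_single, map_one, _root_.mul_one] at h1
  refine Eq.trans ?_ h1
  simp only [RingHom.comp_apply]
  generalize c x = v
  induction v using MonoidAlgebra.induction_linear with
  | zero => simp
  | add a' b' ha hb => simp only [map_add, ha, hb]
  | single n b => simp

end chart

theorem exists_nhd_fixed {m : Ideal R} (h : Triv e a y m) {N : Type} [CommGroup N] [Finite N]
    (p : Multiplicative M →* N) {A : Type u} [CommRing A] [Algebra R A] [Algebra.FiniteType R A]
    (j : Spec (CommRingCat.of A) ⟶ XP (X := X) (u₀ := u₀) y) [IsOpenImmersion j]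
    (hj : j ≫ pullback.snd _ _ = Spec.map (CommRingCat.ofHom (algebraMap R A)))
    (P : PrimeSpectrum A) (hP : m.map (algebraMap R A) ≤ P.asIdeal) :
    ∃ W : (Spec (CommRingCat.of A)).Opens, P ∈ W ∧ ∀ (D : Type u) [CommRing D] (φ : A →+* D),
      Set.range (Spec.map (CommRingCat.ofHom φ)).base ⊆ (W : Set (Spec (CommRingCat.of A))) →
      ∀ (χ : N →* D) (hw : (Spec.map (CommRingCat.ofHom φ) ≫ j) ≫ pullback.snd _ _ =
          Spec.map (CommRingCat.ofHom (φ.comp (algebraMap R A)))),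
        actP e a y (φ.comp (algebraMap R A)) (χ.comp p) (Spec.map (CommRingCat.ofHom φ) ≫ j) hw =
          Spec.map (CommRingCat.ofHom φ) ≫ j := by
  classical
  obtain ⟨f, hfP, c, hck, hc0⟩ := exists_coaction e a y p j hj h P hP
  let A₂ := Localization.Away f
  let r₂ : A →+* A₂ := algebraMap A A₂
  -- the second localisation
  let P₂ : Ideal A₂ := P.asIdeal.map r₂
  have hP₂ : P₂.IsPrime := IsLocalization.isPrime_of_isPrime_disjoint (Submonoid.powers f) A₂ P.asIdeal P.isPrime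
    (Ideal.disjoint_powers_iff_notMem f P.isPrime.isRadical |>.mpr hfP)
  have hmP₂ : m.map (r₂.comp (algebraMap R A)) ≤ P₂ := by
    rw [← Ideal.map_map]; exact Ideal.map_mono hP
  obtain ⟨g, hgP, hg⟩ := exists_avoid_zero e a y p j hj h r₂ c (fun {D} _ ψ χ => hck D ψ χ) f
    (IsLocalization.Away.algebraMap_isUnit f) P₂ hmP₂
  let A₅ := Localization.Away g
  let r₅ := algebraMap A₂ A₅
  have hunit : IsUnit (((MonoidAlgebra.mapRingHom N r₅).comp c) f) := by
    by_contra hn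
    obtain ⟨q, hqm, hqf⟩ := Ideal.exists_le_maximal _ ((Ideal.span_singleton_eq_top (α := MonoidAlgebra A₅ N)).not.mpr hn)
    refine hg (PrimeSpectrum.comap (MonoidAlgebra.mapRingHom N r₅) ⟨q, hqm.isPrime⟩) ?_ ?_
    · change ¬ (MonoidAlgebra.mapRingHom N r₅) (MonoidAlgebra.singleOneRingHom g) ∈ q
      intro hmem
      refine hqm.ne_top (Ideal.eq_top_of_isUnit_mem _ hmem ?_)
      have : IsUnit (r₅ g) := IsLocalization.Away.algebraMap_isUnit g
      simpa using this.map (MonoidAlgebra.singleOneRingHom : A₅ →+* MonoidAlgebra A₅ N)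
    · intro v hv
      obtain rfl := Set.mem_singleton_iff.mp hv
      exact hqf (Ideal.subset_span rfl)
  obtain ⟨c', hext⟩ : ∃ c' : A₂ →+* MonoidAlgebra A₅ N, c'.comp r₂ = (MonoidAlgebra.mapRingHom N r₅).comp c :=
    ⟨_, IsLocalization.Away.lift_comp (S := A₂) (P := MonoidAlgebra A₅ N)
      (g := (MonoidAlgebra.mapRingHom N r₅).comp c) f hunit⟩
  let P₅ : Ideal A₅ := P₂.map r₅
  have hP₅ : P₅.IsPrime := IsLocalization.isPrime_of_isPrime_disjoint (Submonoid.powers g) A₅ P₂ hP₂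
    (Ideal.disjoint_powers_iff_notMem g hP₂.isRadical |>.mpr hgP)
  have hoi : IsOpenImmersion (Spec.map (CommRingCat.ofHom (r₅.comp r₂))) := by
    rw [specMap_comp]
    exact inferInstanceAs (IsOpenImmersion (_ ≫ _))
  obtain ⟨W, hPW, hW⟩ := nhd_of_coaction e a y p j hj h f r₅ c c' hext hck hc0 P₅
    (by rw [← Ideal.map_map]; exact Ideal.map_mono hmP₂)
  refine ⟨W, ?_, fun D _ φ hφ χ _ => hW D φ hφ χ⟩
  convert hPW using 1
  refine PrimeSpectrum.ext ?_
  change P.asIdeal = P₅.comap (r₅.comp r₂)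
  have h5 : P₅.comap r₅ = P₂ := IsLocalization.under_map_of_isPrime_disjoint (Submonoid.powers g) A₅ hP₂
    (Ideal.disjoint_powers_iff_notMem g hP₂.isRadical |>.mpr hgP)
  have h2 : P₂.comap r₂ = P.asIdeal := IsLocalization.under_map_of_isPrime_disjoint (Submonoid.powers f) A₂ P.isPrime
    (Ideal.disjoint_powers_iff_notMem f P.isPrime.isRadical |>.mpr hfP)
  rw [← Ideal.comap_comap, h5, h2]

end Groth.Agent.H21Fix
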