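import Mathlib

/-!
Averaging over a group with an invariant integral, for functions congruent to constants modulo a square-zero ideal.
-/

set_option autoImplicit false
set_option linter.style.haveILetI false
universe u
open TensorProduct
open scoped TensorProduct

namespace Groth.Agent.H21Fix

variable {R A : Type u} [CommRing R] [CommRing A]

/-- a normalised invariant integral -/
structure Integral (R A : Type u) [CommRing R] [CommRing A] [Bialgebra R A] where
  /-- the functional -/
  toFun : A →ₗ[R] R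
  map_one : toFun 1 = 1
  inv : ∀ a, TensorProduct.lid R A (toFun.rTensor A (Coalgebra.comul a)) = algebraMap R A (toFun a)

variable [Algebra R A] {B D : Type u} [CommRing B] [Algebra R B] [CommRing D] [Algebra R D]

/-- functions congruent to constants modulo `N` -/
def constMod (N : Ideal B) : Subalgebra B (B ⊗[R] A) where
  carrier := {c | ∃ b : B, c - algebraMap B (B ⊗[R] A) b ∈ N.map (algebraMap B (B ⊗[R] A))}
  mul_mem' := fun {c c'} ⟨b, hb⟩ ⟨b', hb'⟩ => ⟨b * b', by
    rw [map_mul, show c * c' - algebraMap B (B ⊗[R] A) b * algebraMap B (B ⊗[R] A) b' =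
      (c - algebraMap B _ b) * c' + algebraMap B _ b * (c' - algebraMap B _ b') by ring]
    exact add_mem (Ideal.mul_mem_right _ _ hb) (Ideal.mul_mem_left _ _ hb')⟩
  add_mem' := fun {c c'} ⟨b, hb⟩ ⟨b', hb'⟩ => ⟨b + b', by
    rw [map_add, show c + c' - (algebraMap B (B ⊗[R] A) b + algebraMap B (B ⊗[R] A) b') =
      (c - algebraMap B _ b) + (c' - algebraMap B _ b') by ring]
    exact add_mem hb hb'⟩
  algebraMap_mem' := fun b => ⟨b, by simp⟩

theorem mem_constMod {N : Ideal B} {c : B ⊗[R] A} :
    c ∈ constMod N ↔ ∃ b : B, c - algebraMap B (B ⊗[R] A) b ∈ N.map (algebraMap B (B ⊗[R] A)) := Iff.rfl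

/-- integration over the group -/
noncomputable def avg (l : A →ₗ[R] R) : B ⊗[R] A →ₗ[B] B :=
  (TensorProduct.AlgebraTensorModule.rid R B B).toLinearMap ∘ₗ l.baseChange B

@[simp]
theorem avg_tmul (l : A →ₗ[R] R) (b : B) (a : A) : avg l (b ⊗ₜ[R] a) = l a • b := by simp [avg]

theorem avg_algebraMap {l : A →ₗ[R] R} (h1 : l 1 = 1) (b : B) : avg l (algebraMap B (B ⊗[R] A) b) = b := by
  simp [Algebra.TensorProduct.algebraMap_apply, h1]

theorem avg_mem {N : Ideal B} (l : A →ₗ[R] R) {c : B ⊗[R] A} (hc : c ∈ N.map (algebraMap B (B ⊗[R] A))) :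
    avg l c ∈ N := by
  have h : c ∈ (N • ⊤ : Submodule B (B ⊗[R] A)) := by
    rw [Ideal.smul_top_eq_map]; exact hc
  refine Submodule.smul_induction_on h (fun b hb x _ => ?_) fun x y hx hy => ?_
  · rw [map_smul, smul_eq_mul]; exact N.mul_mem_right _ hb
  · rw [map_add]; exact add_mem hx hy

theorem avg_mul {N : Ideal B} (hN : ∀ x ∈ N, ∀ y ∈ N, x * y = 0) {l : A →ₗ[R] R} (h1 : l 1 = 1) {c c' : B ⊗[R] A}
    (hc : c ∈ constMod N) (hc' : c' ∈ constMod N) : avg l (c * c') = avg l c * avg l c' := by
  obtain ⟨b, hb⟩ := hc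
  obtain ⟨b', hb'⟩ := hc'
  have h0 : (c - algebraMap B _ b) * (c' - algebraMap B _ b') = 0 := by
    have : (c - algebraMap B _ b) * (c' - algebraMap B _ b') ∈ (N * N).map (algebraMap B (B ⊗[R] A)) := by
      rw [Ideal.map_mul]; exact Ideal.mul_mem_mul hb hb'
    rwa [show N * N = ⊥ from le_bot_iff.mp (Ideal.mul_le.mpr fun x hx y hy => by simp [hN x hx y hy]),
      Ideal.map_bot, Ideal.mem_bot] at this
  rw [show c * c' = b' • c + b • c' - algebraMap B _ (b * b') +
      (c - algebraMap B _ b) * (c' - algebraMap B _ b') by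
    rw [Algebra.smul_def, Algebra.smul_def, map_mul]; ring, h0, add_zero]
  rw [map_sub, map_add, map_smul, map_smul, avg_algebraMap h1, smul_eq_mul, smul_eq_mul]
  have h2 : (avg l c - b) * (avg l c' - b') = 0 := hN _ (by simpa [avg_algebraMap h1, h1] using avg_mem l hb) _
    (by simpa [avg_algebraMap h1, h1] using avg_mem l hb')
  linear_combination -h2

/-- integration, as a homomorphism on functions congruent to constants -/
noncomputable def avgHom {N : Ideal B} (hN : ∀ x ∈ N, ∀ y ∈ N, x * y = 0) {l : A →ₗ[R] R} (h1 : l 1 = 1) :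
    constMod (R := R) (A := A) N →ₐ[B] B where
  toFun c := avg l c.1
  map_one' := by
    simpa [Algebra.TensorProduct.one_def] using avg_algebraMap (B := B) h1 1
  map_mul' c c' := avg_mul hN h1 c.2 c'.2
  map_zero' := map_zero _
  map_add' c c' := map_add _ _ _
  commutes' b := avg_algebraMap h1 b

theorem avgHom_apply {N : Ideal B} (hN : ∀ x ∈ N, ∀ y ∈ N, x * y = 0) {l : A →ₗ[R] R} (h1 : l 1 = 1)
    (c : constMod (R := R) (A := A) N) : avgHom hN h1 c = avg l c.1 := rfl

/-- the change of rings of functions -/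
noncomputable abbrev changeMap (φ : B →ₐ[R] D) : B ⊗[R] A →ₐ[R] D ⊗[R] A :=
  Algebra.TensorProduct.map φ (AlgHom.id R A)

theorem changeMap_algebraMap (φ : B →ₐ[R] D) (b : B) :
    changeMap (A := A) φ (algebraMap B (B ⊗[R] A) b) = algebraMap D (D ⊗[R] A) (φ b) := by
  simp [Algebra.TensorProduct.algebraMap_apply]

theorem avg_changeMap (l : A →ₗ[R] R) (φ : B →ₐ[R] D) (c : B ⊗[R] A) : avg l (changeMap φ c) = φ (avg l c) := by
  induction c using TensorProduct.induction_on with
  | zero => simp
  | tmul b a => simp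
  | add x y hx hy => simp [hx, hy]

theorem changeMap_mem {N : Ideal B} (φ : B →ₐ[R] D) {c : B ⊗[R] A} (hc : c ∈ constMod N) :
    changeMap φ c ∈ constMod (N.map φ) := by
  obtain ⟨b, hb⟩ := hc
  refine ⟨φ b, ?_⟩
  rw [← changeMap_algebraMap, ← map_sub]
  have h := Ideal.mem_map_of_mem (changeMap (A := A) φ).toRingHom hb
  rw [Ideal.map_map] at h
  rw [← Ideal.map_coe φ, Ideal.map_map]
  convert! h using 2
  all_goals exact RingHom.ext fun x => (changeMap_algebraMap φ x).symm

/-- translation by a point -/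
noncomputable def trans {A : Type u} [CommRing A] [Bialgebra R A] (g : A →ₐ[R] D) : D ⊗[R] A →ₐ[D] D ⊗[R] A :=
  Algebra.TensorProduct.lift (Algebra.ofId D (D ⊗[R] A))
    (((Algebra.TensorProduct.comm R A D).toAlgHom.comp (Algebra.TensorProduct.map (AlgHom.id R A) g)).comp
      (Bialgebra.comulAlgHom R A)) fun _ _ => Commute.all _ _

section
variable {A : Type u} [CommRing A] [Bialgebra R A] (I : Integral R A) (g : A →ₐ[R] D)

theorem avg_trans (c : D ⊗[R] A) : avg I.toFun (trans g c) = avg I.toFun c := by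
  have key : ∀ z : A ⊗[R] A, avg I.toFun ((Algebra.TensorProduct.comm R A D)
      (Algebra.TensorProduct.map (AlgHom.id R A) g z)) = g (TensorProduct.lid R A (I.toFun.rTensor A z)) := by
    intro z
    induction z using TensorProduct.induction_on with
    | zero => simp
    | tmul a a' => simp
    | add x y hx hy => simp [hx, hy]
  induction c using TensorProduct.induction_on with
  | zero => simp
  | tmul d a =>
    rw [trans, Algebra.TensorProduct.lift_tmul, Algebra.ofId_apply, ← Algebra.smul_def, map_smul]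
    simp only [AlgHom.comp_apply, Bialgebra.comulAlgHom_apply]
    rw [show (Algebra.TensorProduct.comm R A D).toAlgHom (Algebra.TensorProduct.map (AlgHom.id R A) g
      (Coalgebra.comul a)) = (Algebra.TensorProduct.comm R A D) (Algebra.TensorProduct.map (AlgHom.id R A) g
      (Coalgebra.comul a)) from rfl, key, I.inv]
    simp [Algebra.algebraMap_eq_smul_one]
  | add x y hx hy => simp [hx, hy]

theorem trans_mem {N : Ideal D} {c : D ⊗[R] A} (hc : c ∈ constMod N) : trans g c ∈ constMod N := by
  obtain ⟨b, hb⟩ := hc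
  refine ⟨b, ?_⟩
  rw [← (trans g).commutes b, ← map_sub]
  have h := Ideal.mem_map_of_mem (trans g).toRingHom hb
  rw [Ideal.map_map] at h
  convert! h using 2
  exact RingHom.ext fun x => ((trans g).commutes x).symm

end

end Groth.Agent.H21Fix
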