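import Groth.Agent.H21Fix.SmoothFixed
import Groth.Agent.H21Diag.Invariants
import Groth.Agent.H21Diag.FpqcLocal
import Groth.Agent.H21Diag.LocallyDiag
import Groth.Agent.H21Diag.Diag
import Groth.Prelude.Def_ActBC
import Mathlib.RingTheory.Bialgebra.MonoidAlgebra

/-!
Fixed loci of groups of multiplicative type in smooth separated schemes are smooth.
-/

set_option autoImplicit false
set_option linter.style.haveILetI false
set_option backward.isDefEq.respectTransparency false
set_option maxHeartbeats 1000000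
set_option synthInstance.maxHeartbeats 400000
universe u
open CategoryTheory CategoryTheory.Limits MonoidalCategory CartesianMonoidalCategory MonObj GrpObj AlgebraicGeometry
open scoped TensorProduct

namespace Groth.Agent.H21Fix

/-- the coefficient at the trivial character -/
noncomputable def integralMonoidAlgebra (R : Type u) [CommRing R] (M : Type) [CommGroup M] :
    Integral R (MonoidAlgebra R M) where
  toFun := Finsupp.lapply 1 ∘ₗ (MonoidAlgebra.coeffLinearEquiv R).toLinearMap
  map_one := by simp [MonoidAlgebra.one_def]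
  inv a := by
    induction a using MonoidAlgebra.induction_linear with
    | zero => simp
    | add x y hx hy => simp only [map_add, hx, hy]
    | single m r =>
      classical
      rcases eq_or_ne m 1 with rfl | hm
      · simp [MonoidAlgebra.comul_single, Algebra.algebraMap_eq_smul_one, MonoidAlgebra.one_def]
      · simp [MonoidAlgebra.comul_single, hm.symm]

variable {S : Scheme.{u}} {G X Z : Over S} [GrpObj G]

/-- `z` represents the fixed points of `a` -/
def IsFixedLocusOver (a : AlgGrp.Action G X) (z : Z ⟶ X) : Prop :=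
  ∀ (T : Over S) (x : T ⟶ X), (∃ w : T ⟶ Z, w ≫ z = x) ↔
    ∀ (T' : Over S) (t : T' ⟶ T) (g : T' ⟶ G), lift g (t ≫ x) ≫ a.act = t ≫ x

theorem isFixedLocusOver_bc {a : AlgGrp.Action G X} {z : Z ⟶ X} (hZ : IsFixedLocusOver a z)
    {S' : Scheme.{u}} (v : S' ⟶ S) : IsFixedLocusOver (a.bc v) ((Over.pullback v).map z) := by
  intro T x
  let he := fun (P : Over S') (Q : Over S) => (Over.mapPullbackAdj v).homEquiv P Q
  obtain ⟨x₀, rfl⟩ := (he T X).surjective x
  constructor
  · rintro ⟨w, hw⟩ T' t g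
    obtain ⟨w₀, rfl⟩ := (he T Z).surjective w
    rw [← Adjunction.homEquiv_naturality_right] at hw
    obtain ⟨g₀, rfl⟩ := (he T' G).surjective g
    rw [← Adjunction.homEquiv_naturality_left, AlgGrp.Action.lift_homEquiv_bc_act]
    exact congrArg _ ((hZ _ x₀).mp ⟨w₀, (he T X).injective hw⟩ _ _ g₀)
  · intro h
    obtain ⟨w₀, hw₀⟩ := (hZ _ x₀).mpr (fun T₀ t₀ g₀ => by
      let T' : Over S' := Over.mk (t₀.left ≫ T.hom)
      let e : (Over.map v).obj T' ≅ T₀ := Over.isoMk (Iso.refl _) (by
        have := Over.w t₀; simp only [Over.map_obj_hom] at this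
        simp [T', this])
      let t' : T' ⟶ T := Over.homMk t₀.left rfl
      have ht : (Over.map v).map t' = e.hom ≫ t₀ := by ext : 1; simp [t', e]
      have h1 := h T' t' (he T' G (e.hom ≫ g₀))
      rw [← Adjunction.homEquiv_naturality_left, AlgGrp.Action.lift_homEquiv_bc_act, ht, Category.assoc,
        ← comp_lift, Category.assoc] at h1
      exact (cancel_epi e.hom).mp ((he T' X).injective h1))
    exact ⟨he T Z w₀, by rw [← Adjunction.homEquiv_naturality_right, hw₀]⟩

theorem isFixedLocusOver_restrict {a : AlgGrp.Action G X} {z : Z ⟶ X} (hZ : IsFixedLocusOver a z)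
    {H : Over S} [GrpObj H] (φ : H ⟶ G) [IsMonHom φ] [IsIso φ] : IsFixedLocusOver (a.restrict φ) z := by
  intro T x
  refine (hZ T x).trans ⟨fun h T' t g => ?_, fun h T' t g => ?_⟩
  · simpa [AlgGrp.Action.restrict_act] using h T' t (g ≫ φ)
  · simpa [AlgGrp.Action.restrict_act] using h T' t (g ≫ inv φ)

theorem lfp_fixedLocus (hG : SGA3x.IsMultTypeFT G) [IsSeparated X.hom] [LocallyOfFiniteType X.hom]
    (a : AlgGrp.Action G X) (z : Z ⟶ X) [IsClosedImmersion z.left] (hZ : IsFixedLocusOver a z) :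
    LocallyOfFinitePresentation z.left := by
  obtain ⟨Z₀, j, hj, hjf, hiff⟩ := H21Diag.exists_inv_locus (H21Diag.isDiagLoc_of_isMultTypeFT hG) a
  obtain ⟨w, hw⟩ := (hiff Z z).mpr ((hZ Z z).mp ⟨𝟙 _, Category.id_comp _⟩)
  obtain ⟨w', hw'⟩ := (hZ Z₀ j).mpr ((hiff Z₀ j).mp ⟨𝟙 _, Category.id_comp _⟩)
  haveI : Mono j := (Over.forget _).mono_of_mono_map (show Mono j.left from inferInstance)
  haveI : Mono z := (Over.forget _).mono_of_mono_map (show Mono z.left from inferInstance)
  let e : Z ≅ Z₀ := ⟨w, w', (cancel_mono z).mp (by rw [Category.assoc, hw', hw, Category.id_comp]),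
    (cancel_mono j).mp (by rw [Category.assoc, hw, hw', Category.id_comp])⟩
  haveI : IsIso w.left := ((Over.forget S).mapIso e).isIso_hom
  rw [← hw]
  exact inferInstanceAs (LocallyOfFinitePresentation (w.left ≫ j.left))

theorem smooth_fixedLocus_diag {R : Type u} [CommRing R] {M : Type} [AddCommGroup M]
    {X Z : Over (Spec (CommRingCat.of R))} [Smooth X.hom] (a : AlgGrp.Action (Red.diag R M) X) (z : Z ⟶ X)
    [IsClosedImmersion z.left] (hZ : IsFixedLocusOver a z) [LocallyOfFinitePresentation z.left] :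
    Smooth Z.hom := by
  let B := pS R (MonoidAlgebra R (Multiplicative M))
  haveI : Smooth (toUnit X).left := by
    rw [show (toUnit X).left = X.hom by simp]; infer_instance
  haveI : LocallyOfFinitePresentation (toUnit Z).left := by
    rw [show (toUnit Z).left = z.left ≫ X.hom by simp]; infer_instance
  let i₁ : 𝟙_ (Over (Spec (CommRingCat.of R))) ⟶ 𝟙_ (Over (Spec (CommRingCat.of R))) := 𝟙 _
  haveI : IsClosedImmersion i₁.left := by
    rw [show i₁.left = 𝟙 _ from rfl]; infer_instance
  have := smooth_fixedLocus (integralMonoidAlgebra R (Multiplicative M)) a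
    (AlgGrp.Action.trivial B (𝟙_ (Over (Spec (CommRingCat.of R))))) (toUnit X) (toUnit_unique _ _)
    z i₁ hZ (fun T x => ⟨fun _ _ _ _ => toUnit_unique _ _, fun _ => ⟨x, Category.comp_id x⟩⟩)
    (toUnit Z) (toUnit_unique _ _)
  rw [show (toUnit Z).left = Z.hom by simp] at this
  exact this

theorem smooth_fixedLocus_multTypeFT (hG : SGA3x.IsMultTypeFT G) [Smooth X.hom] [IsSeparated X.hom]
    (a : AlgGrp.Action G X) (z : Z ⟶ X) [IsClosedImmersion z.left] (hZ : IsFixedLocusOver a z) :
    Smooth Z.hom := by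
  haveI := lfp_fixedLocus hG a z hZ
  haveI : MorphismProperty.DescendsAlong @Smooth H18Descent.fpqc.{u} :=
    inferInstanceAs (MorphismProperty.DescendsAlong @Smooth (@Surjective ⊓ @Flat ⊓ @QuasiCompact))
  obtain ⟨S', g, hg, hs, hqc, hloc⟩ := hG
  refine H21Diag.of_fpqc_cover_base @Smooth g hqc Z.hom fun s' => ?_
  obtain ⟨U, hsU, M, _, -, ⟨e⟩⟩ := hloc s'
  obtain ⟨W, hW, hsW, hWU⟩ := exists_isAffineOpen_mem_and_subset (U := U) (x := s') hsU
  refine ⟨W, hsW, ?_⟩
  let c := hW.fromSpec ≫ g
  let ι₀ : Spec Γ(S', W) ⟶ (U : Scheme.{u}) := hW.isoSpec.inv ≫ S'.homOfLE hWU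
  have hι₀ : ι₀ ≫ U.ι ≫ g = c := by
    simp only [ι₀, c, Category.assoc, Scheme.homOfLE_ι_assoc]
    rw [← Category.assoc, hW.isoSpec_inv_ι]
  let e₁ : Grp.mk (Red.bc c G) ≅ Grp.mk (Red.diag Γ(S', W) M) :=
    H21Diag.restrictChart e ι₀ hι₀ ≪≫ (Grp.mkIso' (asIso (H21Diag.diagToDS Γ(S', W) M))).symm
  let φ : Red.diag Γ(S', W) M ⟶ Red.bc c G := e₁.inv.hom.hom
  haveI : IsMonHom φ := e₁.inv.hom.isMonHom_hom
  haveI : IsIso φ := ((Grp.forget _).mapIso e₁.symm).isIso_hom
  haveI : IsClosedImmersion ((Over.pullback c).map z).left := MorphismProperty.overPullbackMap c z ‹_›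
  haveI : LocallyOfFinitePresentation ((Over.pullback c).map z).left := MorphismProperty.overPullbackMap c z ‹_›
  haveI : Smooth (Red.bc c X).hom := inferInstanceAs (Smooth (pullback.snd X.hom c))
  have h : Smooth (pullback.snd Z.hom c) := smooth_fixedLocus_diag ((a.bc c).restrict φ) _
    (isFixedLocusOver_restrict (isFixedLocusOver_bc hZ c) φ)
  have hc : W.ι ≫ g = hW.isoSpec.hom ≫ c := by
    simp only [c, ← hW.isoSpec_inv_ι, Category.assoc, Iso.hom_inv_id_assoc]
  rw [hc, ← pullbackLeftPullbackSndIso_inv_snd_snd Z.hom c, MorphismProperty.cancel_left_of_respectsIso (P := @Smooth)]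
  exact MorphismProperty.pullback_snd _ _ h

end Groth.Agent.H21Fix
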