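import Groth.Agent.H21Diag.FibreTrivial

/-!
A diagonalisable group acting on the points of the base change to an affine scheme.
-/

set_option autoImplicit false
set_option linter.style.haveILetI false
set_option backward.isDefEq.respectTransparency false

universe u

open CategoryTheory MonoidalCategory CartesianMonoidalCategory MonObj GrpObj AlgebraicGeometry
open CategoryTheory.Limits
open Groth.Agent.H21Diag

namespace Groth.Agent.H21Fix

variable {S U : Scheme.{u}} {u₀ : U ⟶ S} {G X : Over S} [GrpObj G] {M : Type} [AddCommGroup M]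
  (e : Grp.mk (Red.bc u₀ G) ≅ Grp.mk (Red.DS U M)) (a : AlgGrp.Action G X)
  {R : Type u} [CommRing R] (y : Spec (CommRingCat.of R) ⟶ U)

/-- `X` over the affine scheme -/
noncomputable abbrev XP : Scheme.{u} := pullback X.hom (y ≫ u₀)

theorem xp_cond {D : Type u} [CommRing D] (g : R →+* D) (w : Spec (CommRingCat.of D) ⟶ XP (X := X) (u₀ := u₀) y)
    (hw : w ≫ pullback.snd _ _ = Spec.map (CommRingCat.ofHom g)) :
    (w ≫ pullback.fst _ _) ≫ X.hom = (Spec.map (CommRingCat.ofHom g) ≫ y) ≫ u₀ := by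
  rw [Category.assoc, pullback.condition, ← Category.assoc, hw, Category.assoc]

/-- the action on points of `X` over the affine scheme -/
noncomputable def actP {D : Type u} [CommRing D] (g : R →+* D) (χ : Multiplicative M →* D)
    (w : Spec (CommRingCat.of D) ⟶ XP (X := X) (u₀ := u₀) y)
    (hw : w ≫ pullback.snd _ _ = Spec.map (CommRingCat.ofHom g)) :
    Spec (CommRingCat.of D) ⟶ XP (X := X) (u₀ := u₀) y :=
  pullback.lift (act e a (Spec.map (CommRingCat.ofHom g) ≫ y) χ (w ≫ pullback.fst _ _) (xp_cond y g w hw))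
    (Spec.map (CommRingCat.ofHom g))
    ((act_over e a _ _ _ _).trans (Category.assoc _ _ _))

variable {D : Type u} [CommRing D]

theorem actP_snd (g : R →+* D) (χ : Multiplicative M →* D)
    (w : Spec (CommRingCat.of D) ⟶ XP (X := X) (u₀ := u₀) y)
    (hw : w ≫ pullback.snd _ _ = Spec.map (CommRingCat.ofHom g)) :
    actP e a y g χ w hw ≫ pullback.snd _ _ = Spec.map (CommRingCat.ofHom g) :=
  pullback.lift_snd _ _ _

theorem actP_fst (g : R →+* D) (χ : Multiplicative M →* D)
    (w : Spec (CommRingCat.of D) ⟶ XP (X := X) (u₀ := u₀) y)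
    (hw : w ≫ pullback.snd _ _ = Spec.map (CommRingCat.ofHom g)) :
    actP e a y g χ w hw ≫ pullback.fst _ _ =
      act e a (Spec.map (CommRingCat.ofHom g) ≫ y) χ (w ≫ pullback.fst _ _) (xp_cond y g w hw) :=
  pullback.lift_fst _ _ _

theorem actP_congr {g g' : R →+* D} {χ χ' : Multiplicative M →* D}
    {w w' : Spec (CommRingCat.of D) ⟶ XP (X := X) (u₀ := u₀) y} (hg : g = g') (hχ : χ = χ') (h : w = w')
    {hw : w ≫ pullback.snd _ _ = Spec.map (CommRingCat.ofHom g)}
    {hw' : w' ≫ pullback.snd _ _ = Spec.map (CommRingCat.ofHom g')} :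
    actP e a y g χ w hw = actP e a y g' χ' w' hw' := by
  subst hg hχ h
  rfl

theorem actP_comp (g : R →+* D) (χ : Multiplicative M →* D)
    (w : Spec (CommRingCat.of D) ⟶ XP (X := X) (u₀ := u₀) y)
    (hw : w ≫ pullback.snd _ _ = Spec.map (CommRingCat.ofHom g))
    {D' : Type u} [CommRing D'] (φ : D →+* D') :
    Spec.map (CommRingCat.ofHom φ) ≫ actP e a y g χ w hw =
      actP e a y (φ.comp g) (φ.toMonoidHom.comp χ) (Spec.map (CommRingCat.ofHom φ) ≫ w)
        (by rw [Category.assoc, hw, ← specMap_comp]) := by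
  refine pullback.hom_ext ?_ ?_
  · rw [Category.assoc, actP_fst, actP_fst, act_comp]
    exact act_congr e a (specMap_comp_assoc g φ y) rfl (Category.assoc _ _ _).symm
  · rw [Category.assoc, actP_snd, actP_snd, ← specMap_comp]

theorem actP_one (g : R →+* D) (w : Spec (CommRingCat.of D) ⟶ XP (X := X) (u₀ := u₀) y)
    (hw : w ≫ pullback.snd _ _ = Spec.map (CommRingCat.ofHom g)) : actP e a y g 1 w hw = w := by
  refine pullback.hom_ext ?_ ?_
  · rw [actP_fst, act_one]
  · rw [actP_snd, hw]

theorem actP_mul (g : R →+* D) (χ χ' : Multiplicative M →* D)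
    (w : Spec (CommRingCat.of D) ⟶ XP (X := X) (u₀ := u₀) y)
    (hw : w ≫ pullback.snd _ _ = Spec.map (CommRingCat.ofHom g)) :
    actP e a y g (χ * χ') w hw = actP e a y g χ (actP e a y g χ' w hw) (actP_snd e a y g χ' w hw) := by
  refine pullback.hom_ext ?_ ?_
  · rw [actP_fst, actP_fst, act_mul]
    exact act_congr e a rfl rfl (actP_fst e a y g χ' w hw).symm
  · rw [actP_snd, actP_snd]

theorem actP_eq_self {J : Ideal R} (h : Triv e a y J) (g : R →+* D) (hg : J.map g = ⊥)
    (χ : Multiplicative M →* D) (w : Spec (CommRingCat.of D) ⟶ XP (X := X) (u₀ := u₀) y)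
    (hw : w ≫ pullback.snd _ _ = Spec.map (CommRingCat.ofHom g)) : actP e a y g χ w hw = w := by
  refine pullback.hom_ext ?_ ?_
  · rw [actP_fst]; exact h D g hg χ _ _
  · rw [actP_snd, hw]

end Groth.Agent.H21Fix
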