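import Groth.Agent.H21Fix.Integral
import Groth.Prelude.Def_AlgGrp

/-!
Fixed points of a group with an invariant integral lift along square-zero extensions.
-/

set_option autoImplicit false
set_option linter.style.haveILetI false
set_option backward.isDefEq.respectTransparency false
set_option maxHeartbeats 1000000
universe u
open CategoryTheory CategoryTheory.Limits MonoidalCategory CartesianMonoidalCategory MonObj GrpObj AlgebraicGeometry
open scoped TensorProduct

namespace Groth.Agent.H21Fix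

variable {R : Type u} [CommRing R]

/-- spectrum as an object over the base -/
noncomputable abbrev pS (R D : Type u) [CommRing R] [CommRing D] [Algebra R D] : Over (Spec (CommRingCat.of R)) :=
  (Spec (CommRingCat.of D)).asOver (Spec (CommRingCat.of R))

/-- spectrum of an algebra map -/
noncomputable abbrev pM {D E : Type u} [CommRing D] [Algebra R D] [CommRing E] [Algebra R E] (φ : D →ₐ[R] E) :
    pS R E ⟶ pS R D :=
  (Spec.map (CommRingCat.ofHom φ.toRingHom)).asOver _

theorem pM_comp {D E F : Type u} [CommRing D] [Algebra R D] [CommRing E] [Algebra R E] [CommRing F] [Algebra R F]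
    (φ : D →ₐ[R] E) (ψ : E →ₐ[R] F) : pM (ψ.comp φ) = pM ψ ≫ pM φ := by
  refine Over.OverMorphism.ext ?_
  show Spec.map (CommRingCat.ofHom (ψ.comp φ).toRingHom) =
    Spec.map (CommRingCat.ofHom ψ.toRingHom) ≫ Spec.map (CommRingCat.ofHom φ.toRingHom)
  rw [← Spec.map_comp]
  rfl

theorem pM_comp_assoc' {D E F : Type u} [CommRing D] [Algebra R D] [CommRing E] [Algebra R E] [CommRing F] [Algebra R F]
    (φ : D →ₐ[R] E) (ψ : E →ₐ[R] F) {X : Over (Spec (CommRingCat.of R))} (x : pS R D ⟶ X) :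
    pM ψ ≫ pM φ ≫ x = pM (ψ.comp φ) ≫ x := by
  rw [pM_comp, Category.assoc]

theorem pM_id (D : Type u) [CommRing D] [Algebra R D] : pM (AlgHom.id R D) = 𝟙 (pS R D) :=
  Over.OverMorphism.ext (Spec.map_id _)

theorem pM_injective {D E : Type u} [CommRing D] [Algebra R D] [CommRing E] [Algebra R E] :
    Function.Injective (pM : (D →ₐ[R] E) → _) := fun φ ψ h =>
  AlgHom.coe_ringHom_injective (congrArg CommRingCat.Hom.hom
    (Spec.map_injective (congrArg (fun m : pS R E ⟶ pS R D => m.left) h)))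

theorem pM_surjective {D E : Type u} [CommRing D] [Algebra R D] [CommRing E] [Algebra R E]
    (m : pS R E ⟶ pS R D) : ∃ φ : D →ₐ[R] E, pM φ = m := by
  obtain ⟨g, hg⟩ := Spec.map_surjective m.left
  have hw : CommRingCat.ofHom (algebraMap R D) ≫ g = CommRingCat.ofHom (algebraMap R E) := by
    apply Spec.map_injective
    rw [Spec.map_comp, hg]
    exact Over.w m
  exact ⟨{ g.hom with commutes' := fun r => congrArg (fun k => k.hom r) hw }, Over.OverMorphism.ext hg⟩

/-- a ring map with nil kernel and surjective is surjective on spectra -/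
theorem comap_surjective_of_nil {E E₀ : Type u} [CommRing E] [CommRing E₀] (q : E →+* E₀)
    (hq : Function.Surjective q) (hk : ∀ x, q x = 0 → IsNilpotent x) : Function.Surjective (PrimeSpectrum.comap q) := by
  intro p
  have : p ∈ Set.range (PrimeSpectrum.comap q) := by
    rw [range_comap_of_surjective _ _ hq, PrimeSpectrum.mem_zeroLocus]
    intro x hx
    obtain ⟨n, hn⟩ := hk x hx
    exact p.2.mem_of_pow_mem n (hn ▸ p.asIdeal.zero_mem)
  exact this

/-- a point landing in an affine open on a nil-thickened subscheme lands in it -/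
theorem exists_factor {P : Type u} [CommRing P] [Algebra R P] {X : Over (Spec (CommRingCat.of R))}
    (j : pS R P ⟶ X) [IsOpenImmersion j.left] {E E₀ : Type u} [CommRing E] [Algebra R E] [CommRing E₀] [Algebra R E₀]
    (q : E →ₐ[R] E₀) (hq : Function.Surjective (PrimeSpectrum.comap q.toRingHom)) (z : pS R E ⟶ X)
    (θ₀ : P →ₐ[R] E₀) (h : pM q ≫ z = pM θ₀ ≫ j) : ∃ θ : P →ₐ[R] E, pM θ ≫ j = z := by
  have hr : Set.range z.left ⊆ Set.range j.left := by
    rintro _ ⟨p, rfl⟩
    obtain ⟨p₀, rfl⟩ := hq p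
    refine ⟨Spec.map (CommRingCat.ofHom θ₀.toRingHom) p₀, ?_⟩
    exact (congrArg (fun m : pS R E₀ ⟶ X => m.left p₀) h).symm
  let m : pS R E ⟶ pS R P := Over.homMk (IsOpenImmersion.lift j.left z.left hr) (by
    rw [← Over.w j, IsOpenImmersion.lift_fac_assoc]; exact Over.w z)
  obtain ⟨θ, hθ⟩ := pM_surjective m
  exact ⟨θ, Over.OverMorphism.ext (by rw [hθ]; exact IsOpenImmersion.lift_fac _ _ _)⟩

section action

variable {C : Type*} [Category C] [CartesianMonoidalCategory C]

theorem lift_one_act' {S : Scheme.{u}} {H X : Over S} [GrpObj H] (a : AlgGrp.Action H X) {T : Over S} (x : T ⟶ X) :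
    lift (1 : T ⟶ H) x ≫ a.act = x := by
  have h := congrArg (lift (toUnit T) x ≫ ·) a.one_act
  simp only [lift_leftUnitor_hom, ← Category.assoc, lift_whiskerRight] at h
  exact h

theorem lift_mul_act' {S : Scheme.{u}} {H X : Over S} [GrpObj H] (a : AlgGrp.Action H X) {T : Over S} (h h' : T ⟶ H)
    (x : T ⟶ X) : lift (h * h') x ≫ a.act = lift h (lift h' x ≫ a.act) ≫ a.act := by
  have e := congrArg (lift (lift h h') x ≫ ·) a.mul_act
  simp only [← Category.assoc, lift_whiskerRight, lift_lift_associator_hom, lift_whiskerLeft] at e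
  exact e

theorem comp_lift_act {S : Scheme.{u}} {H X : Over S} [GrpObj H] (a : AlgGrp.Action H X) {T T' : Over S} (m : T' ⟶ T)
    (h : T ⟶ H) (x : T ⟶ X) : m ≫ lift h x ≫ a.act = lift (m ≫ h) (m ≫ x) ≫ a.act := by
  rw [← Category.assoc, comp_lift]

theorem lift_inv_act {S : Scheme.{u}} {H X : Over S} [GrpObj H] (a : AlgGrp.Action H X) {T : Over S}
    (h : T ⟶ H) (x : T ⟶ X) (hx : lift h x ≫ a.act = x) : lift h⁻¹ x ≫ a.act = x := by
  conv_lhs => rw [← hx]
  rw [← lift_mul_act', inv_mul_cancel, lift_one_act']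

end action

variable {A : Type u} [CommRing A] [HopfAlgebra R A]

/-- the universal point of the group over `B ⊗ A` -/
noncomputable abbrev uPt (B : Type u) [CommRing B] [Algebra R B] : pS R (B ⊗[R] A) ⟶ pS R A :=
  pM (Algebra.TensorProduct.includeRight : A →ₐ[R] B ⊗[R] A)

/-- the constants in `B ⊗ A` -/
noncomputable abbrev cst (B : Type u) [CommRing B] [Algebra R B] : B →ₐ[R] B ⊗[R] A :=
  Algebra.TensorProduct.includeLeft

/-- fixedness is tested at the universal point -/
theorem fixed_of_univ {X : Over (Spec (CommRingCat.of R))} (a : AlgGrp.Action (pS R A) X) {B : Type u} [CommRing B]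
    [Algebra R B] (x : pS R B ⟶ X) (hx : lift (uPt B) (pM (cst B) ≫ x) ≫ a.act = pM (cst (A := A) B) ≫ x)
    {T : Over (Spec (CommRingCat.of R))} (t : T ⟶ pS R B) (h : T ⟶ pS R A) :
    lift h (t ≫ x) ≫ a.act = t ≫ x := by
  have hw : t.left ≫ Spec.map (CommRingCat.ofHom (algebraMap R B)) = h.left ≫ Spec.map (CommRingCat.ofHom (algebraMap R A)) :=
    (Over.w t).trans (Over.w h).symm
  let m₀ : T.left ⟶ Spec (CommRingCat.of (B ⊗[R] A)) := pullback.lift t.left h.left hw ≫ (pullbackSpecIso R B A).hom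
  have h1 : m₀ ≫ Spec.map (CommRingCat.ofHom (cst (R := R) (A := A) B).toRingHom) = t.left := by
    rw [show (cst (R := R) (A := A) B).toRingHom = Algebra.TensorProduct.includeLeftRingHom from rfl]
    simp [m₀]
  have h2 : m₀ ≫ Spec.map (CommRingCat.ofHom
      (Algebra.TensorProduct.includeRight : A →ₐ[R] B ⊗[R] A).toRingHom) = h.left := by
    simp [m₀]
  let m : T ⟶ pS R (B ⊗[R] A) := Over.homMk m₀ (by
    rw [← Over.w t, ← h1]
    show m₀ ≫ (pS R (B ⊗[R] A)).hom = _
    rw [← Over.w (pM (cst (R := R) (A := A) B))]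
    exact (Category.assoc _ _ _).symm)
  have e1 : m ≫ pM (cst B) = t := Over.OverMorphism.ext h1
  have e2 : m ≫ uPt B = h := Over.OverMorphism.ext h2
  rw [← e1, ← e2, Category.assoc, ← comp_lift_act, hx]

theorem mul_eq_zero_map {B D : Type u} [CommRing B] [Algebra R B] [CommRing D] [Algebra R D] {N : Ideal B}
    (hN : ∀ x ∈ N, ∀ y ∈ N, x * y = 0) (φ : B →ₐ[R] D) : ∀ x ∈ N.map φ, ∀ y ∈ N.map φ, x * y = 0 := fun x hx y hy => by
  have h2 : x * y ∈ (N * N).map φ := by rw [Ideal.map_mul]; exact Ideal.mul_mem_mul hx hy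
  rwa [show N * N = ⊥ from le_bot_iff.mp (Ideal.mul_le.mpr fun x hx y hy => by simp [hN x hx y hy]),
    Ideal.map_bot, Ideal.mem_bot] at h2

theorem comap_surjective_avgHom (I : Integral R A) {B : Type u} [CommRing B] [Algebra R B] {N : Ideal B}
    (hN : ∀ x ∈ N, ∀ y ∈ N, x * y = 0) :
    Function.Surjective (PrimeSpectrum.comap
      (((avgHom hN I.map_one).restrictScalars R : (constMod (R := R) (A := A) N).restrictScalars R →ₐ[R] B)).toRingHom) := by
  refine comap_surjective_of_nil _ (fun b => ⟨⟨algebraMap B _ b, ⟨b, by simp⟩⟩, avg_algebraMap I.map_one b⟩) fun c hc => ?_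
  obtain ⟨c₀, hc₀⟩ := c.2
  have h0 : c₀ ∈ N := by
    have := avg_mem (R := R) I.toFun hc₀
    rw [map_sub, avg_algebraMap I.map_one, show avg I.toFun c.1 = 0 from hc, zero_sub] at this
    exact neg_mem_iff.mp this
  have hc' : c.1 ∈ N.map (algebraMap B (B ⊗[R] A)) := by
    simpa using add_mem hc₀ (Ideal.mem_map_of_mem (algebraMap B (B ⊗[R] A)) h0)
  refine ⟨2, Subtype.ext ?_⟩
  have h2 : c.1 * c.1 ∈ (N * N).map (algebraMap B (B ⊗[R] A)) := by rw [Ideal.map_mul]; exact Ideal.mul_mem_mul hc' hc'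
  rw [show N * N = ⊥ from le_bot_iff.mp (Ideal.mul_le.mpr fun x hx y hy => by simp [hN x hx y hy]),
    Ideal.map_bot, Ideal.mem_bot] at h2
  rw [pow_two]
  exact h2

theorem trans_pM_cst {D : Type u} [CommRing D] [Algebra R D] (g' : A →ₐ[R] D)
    {X : Over (Spec (CommRingCat.of R))} (x : pS R D ⟶ X) :
    pM ((trans g').restrictScalars R) ≫ pM (cst (R := R) (A := A) D) ≫ x = pM (cst (R := R) (A := A) D) ≫ x := by
  rw [← Category.assoc, ← pM_comp, show ((trans g').restrictScalars R).comp (cst (R := R) (A := A) D) = cst D from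
    AlgHom.ext fun c => (trans g').commutes c]

theorem trans_uPt {D : Type u} [CommRing D] [Algebra R D] (g' : A →ₐ[R] D) :
    pM ((trans g').restrictScalars R) ≫ uPt D = uPt D * (pM (cst (R := R) (A := A) D) ≫ pM g') := by
  rw [← pM_comp, ← pM_comp]
  show Spec.mapMulEquiv (WithConv.toConv _) =
    Spec.mapMulEquiv (WithConv.toConv (Algebra.TensorProduct.includeRight : A →ₐ[R] D ⊗[R] A)) *
      Spec.mapMulEquiv (WithConv.toConv ((cst (R := R) (A := A) D).comp g'))
  rw [← map_mul]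
  congr 1
  apply WithConv.ofConv_injective
  refine AlgHom.ext fun a => ?_
  rw [AlgHom.convMul_apply]
  change trans g' ((1 : D) ⊗ₜ[R] a) = _
  rw [trans, Algebra.TensorProduct.lift_tmul, map_one, _root_.one_mul]
  simp only [AlgHom.comp_apply, Bialgebra.comulAlgHom_apply, WithConv.ofConv_toConv]
  generalize (CoalgebraStruct.comul (R := R) a) = z
  induction z using TensorProduct.induction_on with
  | zero => simp
  | tmul a a' => simp
  | add x y hx hy => simp only [map_add, hx, hy]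

theorem translate_point {X : Over (Spec (CommRingCat.of R))} (a : AlgGrp.Action (pS R A) X)
    {B D P : Type u} [CommRing B] [Algebra R B] [CommRing D] [Algebra R D] [CommRing P] [Algebra R P]
    (j : pS R P ⟶ X) (φ : B →ₐ[R] D) (θ : P →ₐ[R] B ⊗[R] A) (x : pS R B ⟶ X)
    (hθ : pM θ ≫ j = lift (uPt B)⁻¹ (pM (cst B) ≫ x) ≫ a.act) :
    pM (changeMap φ) ≫ pM θ ≫ j = lift (uPt D)⁻¹ (pM (cst (R := R) (A := A) D) ≫ pM φ ≫ x) ≫ a.act := by
  rw [hθ, comp_lift_act, GrpObj.comp_inv, pM_comp_assoc' (cst B), ← pM_comp,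
    show (changeMap φ).comp (cst (R := R) (A := A) B) = (cst (R := R) (A := A) D).comp φ from
      AlgHom.ext fun b => changeMap_algebraMap φ b,
    show (changeMap φ).comp (Algebra.TensorProduct.includeRight : A →ₐ[R] B ⊗[R] A) =
      Algebra.TensorProduct.includeRight from AlgHom.ext fun a => by simp,
    ← pM_comp_assoc']

/-- the formal part of the fixedness argument -/
theorem fixed_abstract {X : Over (Spec (CommRingCat.of R))} (a : AlgGrp.Action (pS R A) X)
    {P D TD CD E₀ : Type u} [CommRing P] [Algebra R P] [CommRing D] [Algebra R D] [CommRing TD] [Algebra R TD]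
    [CommRing CD] [Algebra R CD] [CommRing E₀] [Algebra R E₀] (j : pS R P ⟶ X) [IsOpenImmersion j.left]
    (u : pS R D ⟶ pS R A) (x' : pS R D ⟶ X) (ιD : D →ₐ[R] TD) (val : TD →ₐ[R] CD) (hval : Function.Injective val)
    (πD : TD →ₐ[R] D) (hπι : πD.comp ιD = AlgHom.id R D) (τ : CD →ₐ[R] CD) (τT : TD →ₐ[R] TD)
    (hτT : val.comp τT = τ.comp val) (hπτ : πD.comp τT = πD) (v : pS R CD ⟶ pS R A) (xD : pS R CD ⟶ X)
    (hτx : pM τ ≫ xD = xD) (hτv : pM τ ≫ v = v * (pM (val.comp ιD) ≫ u⁻¹))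
    (θD : P →ₐ[R] TD) (hx' : pM πD ≫ pM θD ≫ j = x') (hθD : pM val ≫ pM θD ≫ j = lift v⁻¹ xD ≫ a.act)
    (q' : TD →ₐ[R] E₀) (hq' : Function.Surjective (PrimeSpectrum.comap q'.toRingHom)) (θ₀ : P →ₐ[R] E₀)
    (hE : ∀ z' : pS R TD ⟶ X, pM πD ≫ z' = lift u x' ≫ a.act → pM q' ≫ z' = pM θ₀ ≫ j) :
    lift u x' ≫ a.act = x' := by
  haveI : Mono j := (Over.forget _).mono_of_mono_map (show Mono j.left from inferInstance)
  let z' : pS R TD ⟶ X := lift (pM ιD ≫ u) (pM θD ≫ j) ≫ a.act
  have hπz' : pM πD ≫ z' = lift u x' ≫ a.act := by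
    rw [comp_lift_act, pM_comp_assoc', hπι, pM_id, Category.id_comp, hx']
  obtain ⟨θ', hθ'⟩ := exists_factor j q' hq' z' θ₀ (hE z' hπz')
  have heq : θ' = τT.comp θD := by
    have h1 : val.comp θ' = val.comp (τT.comp θD) := by
      refine pM_injective ((cancel_mono j).mp ?_)
      rw [pM_comp, Category.assoc, hθ', ← AlgHom.comp_assoc, hτT, pM_comp, pM_comp val τ, Category.assoc,
        Category.assoc, hθD]
      show pM val ≫ lift (pM ιD ≫ u) (pM θD ≫ j) ≫ a.act = _
      rw [comp_lift_act, comp_lift_act, GrpObj.comp_inv (pM τ), hτx, hτv, _root_.mul_inv_rev, lift_mul_act',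
        GrpObj.comp_inv, _root_.inv_inv, ← pM_comp_assoc', hθD]
    exact AlgHom.ext fun p => hval (AlgHom.congr_fun h1 p)
  rw [← hπz', ← hθ', heq, pM_comp_assoc', ← AlgHom.comp_assoc, hπτ, ← pM_comp_assoc', hx']

/-- A lift of a point fixed modulo a square-zero ideal can be corrected to a fixed one. -/
theorem exists_fixed_lift (I : Integral R A) {X Y : Over (Spec (CommRingCat.of R))} (a : AlgGrp.Action (pS R A) X)
    (b : AlgGrp.Action (pS R A) Y) (f : X ⟶ Y) (hf : (pS R A ◁ f) ≫ b.act = a.act ≫ f)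
    {P Q : Type u} [CommRing P] [Algebra R P] [CommRing Q] [Algebra R Q] (j : pS R P ⟶ X) [IsOpenImmersion j.left]
    (k : pS R Q ⟶ Y) [IsOpenImmersion k.left] (ψ : Q →ₐ[R] P) (hψ : pM ψ ≫ k = j ≫ f)
    {B : Type u} [CommRing B] [Algebra R B] (N : Ideal B) (hN : ∀ x ∈ N, ∀ y ∈ N, x * y = 0) (y : P →ₐ[R] B)
    (hmod : pM (Ideal.Quotient.mkₐ R (N.map (algebraMap B (B ⊗[R] A)))) ≫ lift (uPt B) (pM (cst B) ≫ pM y ≫ j) ≫ a.act =
      pM (Ideal.Quotient.mkₐ R (N.map (algebraMap B (B ⊗[R] A)))) ≫ pM (cst (A := A) B) ≫ pM y ≫ j)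
    (hbase : lift (uPt B) (pM (cst B) ≫ (pM y ≫ j) ≫ f) ≫ b.act = pM (cst (A := A) B) ≫ (pM y ≫ j) ≫ f) :
    ∃ y' : P →ₐ[R] B, (∀ p, y' p - y p ∈ N) ∧ y'.comp ψ = y.comp ψ ∧
      lift (uPt B) (pM (cst B) ≫ pM y' ≫ j) ≫ a.act = pM (cst (A := A) B) ≫ pM y' ≫ j := by
  haveI : Mono j := (Over.forget _).mono_of_mono_map (show Mono j.left from inferInstance)
  haveI : Mono k := (Over.forget _).mono_of_mono_map (show Mono k.left from inferInstance)
  let C := B ⊗[R] A
  let NC : Ideal C := N.map (algebraMap B C)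
  let q : C →ₐ[R] C ⧸ NC := Ideal.Quotient.mkₐ R NC
  let x : pS R B ⟶ X := pM y ≫ j
  let u : pS R C ⟶ pS R A := uPt B
  have hNC : ∀ c ∈ NC, IsNilpotent c := fun c hc => ⟨2, by
    have h2 : c * c ∈ (N * N).map (algebraMap B C) := by rw [Ideal.map_mul]; exact Ideal.mul_mem_mul hc hc
    rw [show N * N = ⊥ from le_bot_iff.mp (Ideal.mul_le.mpr fun x hx y hy => by simp [hN x hx y hy]),
      Ideal.map_bot, Ideal.mem_bot] at h2
    rw [pow_two, h2]⟩
  have hsurj : Function.Surjective (PrimeSpectrum.comap q.toRingHom) :=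
    comap_surjective_of_nil _ Ideal.Quotient.mk_surjective fun c hc => hNC c (Ideal.Quotient.eq_zero_iff_mem.mp hc)
  -- the translated point
  let w : pS R C ⟶ X := lift u⁻¹ (pM (cst B) ≫ x) ≫ a.act
  have hinvmod : pM q ≫ w = pM q ≫ pM (cst (A := A) B) ≫ x := by
    rw [comp_lift_act, GrpObj.comp_inv]
    refine lift_inv_act a _ _ ?_
    rw [← comp_lift_act]
    exact hmod
  obtain ⟨θ, hθ⟩ := exists_factor j q hsurj w (q.comp ((cst (A := A) B).comp y))
    (by rw [hinvmod, pM_comp, pM_comp]; simp only [x, Category.assoc])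
  have hθq : q.comp θ = q.comp ((cst (A := A) B).comp y) := by
    refine pM_injective ((cancel_mono j).mp ?_)
    rw [pM_comp, Category.assoc, hθ, hinvmod, pM_comp, pM_comp]
    simp only [x, Category.assoc]
  have hθN : ∀ p, θ p - algebraMap B C (y p) ∈ NC := fun p =>
    Ideal.Quotient.eq.mp (AlgHom.congr_fun hθq p)
  let T : Subalgebra R C := (constMod (R := R) (A := A) N).restrictScalars R
  let θT : P →ₐ[R] T := θ.codRestrict T fun p => ⟨y p, hθN p⟩
  let π : T →ₐ[R] B := ((avgHom hN I.map_one).restrictScalars R)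
  let ιT : B →ₐ[R] T := (cst (R := R) (A := A) B).codRestrict T fun b => ⟨b, by simp⟩
  have hπι : π.comp ιT = AlgHom.id R B := AlgHom.ext fun b => avg_algebraMap (A := A) I.map_one b
  let y' : P →ₐ[R] B := π.comp θT
  refine ⟨y', fun p => ?_, ?_, ?_⟩
  · have h1 := avg_mem (R := R) I.toFun (hθN p)
    rw [map_sub, avg_algebraMap I.map_one] at h1
    exact h1
  · -- compatibility over the target
    have hbinv : lift u⁻¹ (pM (cst B) ≫ x ≫ f) ≫ b.act = pM (cst (A := A) B) ≫ x ≫ f := lift_inv_act b _ _ hbase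
    have h1 : pM θ ≫ j ≫ f = pM (cst (A := A) B) ≫ x ≫ f := by
      rw [← Category.assoc, hθ, Category.assoc, ← hf, ← Category.assoc, lift_whiskerLeft, Category.assoc, hbinv]
    have h2 : θ.comp ψ = (cst (A := A) B).comp (y.comp ψ) := by
      refine pM_injective ((cancel_mono k).mp ?_)
      rw [pM_comp, pM_comp, pM_comp, Category.assoc, hψ, h1]
      simp only [x, Category.assoc, hψ]
    have h3 : θT.comp ψ = ιT.comp (y.comp ψ) :=
      AlgHom.ext fun p => Subtype.ext (AlgHom.congr_fun h2 p)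
    rw [show y'.comp ψ = π.comp (θT.comp ψ) from rfl, h3, ← AlgHom.comp_assoc, hπι, AlgHom.id_comp]
  · -- fixedness
    let ND : Ideal C := N.map (cst (R := R) (A := A) B)
    have hN' : ∀ x ∈ ND, ∀ y ∈ ND, x * y = 0 := mul_eq_zero_map hN _
    let TD : Subalgebra R (C ⊗[R] A) := (constMod (R := R) (A := A) ND).restrictScalars R
    let ΦT : T →ₐ[R] TD :=
      ((changeMap (cst (R := R) (A := A) B)).comp T.val).codRestrict TD fun c => changeMap_mem _ c.2
    let ιD : C →ₐ[R] TD := (cst (R := R) (A := A) C).codRestrict TD fun c => ⟨c, by simp⟩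
    let πD : TD →ₐ[R] C := (avgHom hN' I.map_one).restrictScalars R
    obtain ⟨g', hg'⟩ := pM_surjective u⁻¹
    let τT : TD →ₐ[R] TD :=
      (((trans g').restrictScalars R).comp TD.val).codRestrict TD fun c => trans_mem g' c.2
    have hπΦ : πD.comp ΦT = (cst (R := R) (A := A) B).comp π :=
      AlgHom.ext fun c => avg_changeMap I.toFun _ c.1
    have hπιD : πD.comp ιD = AlgHom.id R C := AlgHom.ext fun c => avg_algebraMap (A := A) I.map_one c
    have hθ₁ := translate_point a j (cst (R := R) (A := A) B) θ (pM y ≫ j) hθ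
    refine fixed_abstract (D := C) (TD := TD) (CD := C ⊗[R] A) a j u (pM (cst (R := R) (A := A) B) ≫ pM y' ≫ j) ιD (TD.val) Subtype.val_injective πD
      hπιD ((trans g').restrictScalars R) τT rfl (AlgHom.ext fun c => avg_trans I g' _) (uPt C)
      (pM (cst (R := R) (A := A) C) ≫ pM (cst (R := R) (A := A) B) ≫ pM y ≫ j) ?_ ?_ (ΦT.comp θT) ?_ ?_
      (AlgHom.comp (A := TD) q πD) ?_ (q.comp ((cst (R := R) (A := A) B).comp y)) ?_
    · exact trans_pM_cst g' _
    · rw [show TD.val.comp ιD = cst (R := R) (A := A) C from rfl, ← hg']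
      exact trans_uPt g'
    · rw [pM_comp_assoc' (D := P) (E := TD) (ΦT.comp θT), pM_comp_assoc' y', ← AlgHom.comp_assoc, hπΦ]
      rfl
    · rw [← hθ₁, pM_comp_assoc', pM_comp_assoc']
      rfl
    · rw [AlgHom.toRingHom_eq_coe, AlgHom.comp_toRingHom, PrimeSpectrum.comap_comp]
      exact (comap_surjective_avgHom I hN').comp hsurj
    · intro z' hz'
      have hyN : q.comp ((cst (R := R) (A := A) B).comp y') = q.comp ((cst (R := R) (A := A) B).comp y) :=
        AlgHom.ext fun p => Ideal.Quotient.eq.mpr (by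
          show algebraMap B C (y' p) - algebraMap B C (y p) ∈ NC
          rw [← map_sub]
          have := avg_mem (R := R) I.toFun (hθN p)
          rw [map_sub, avg_algebraMap I.map_one] at this
          exact Ideal.mem_map_of_mem (algebraMap B C) this)
      rw [pM_comp, Category.assoc, hz', comp_lift_act]
      have e : pM q ≫ pM (cst (R := R) (A := A) B) ≫ pM y' ≫ j = pM q ≫ pM (cst (R := R) (A := A) B) ≫ pM y ≫ j := by
        rw [pM_comp_assoc' y' (cst B), pM_comp_assoc' _ q, hyN, ← pM_comp_assoc', ← pM_comp_assoc']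
      rw [e, ← comp_lift_act, hmod]
      rw [← pM_comp_assoc', ← pM_comp_assoc']

end Groth.Agent.H21Fix
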