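import Groth.Agent.H17.Spreading
import Groth.Agent.H13Desc.Immersion
import Groth.Agent.H21Fix.Central

/-!
Centrality at all generizations of a point spreads to a neighbourhood.
-/

set_option autoImplicit false
set_option linter.style.haveILetI false
set_option backward.isDefEq.respectTransparency false
set_option maxHeartbeats 800000
set_option synthInstance.maxHeartbeats 200000

universe u

open CategoryTheory MonoidalCategory CartesianMonoidalCategory MonObj GrpObj AlgebraicGeometry
open CategoryTheory.Limits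
open Groth.Agent.H21Diag

namespace Groth.Agent.H21Fix

variable {S : Scheme.{u}}

/-- Two morphisms over the base which agree at every point over a generization of `s` agree over a
neighbourhood of `s`. -/
theorem exists_nhd_comp_eq_of_stalk {W X : Over S} [QuasiCompact W.hom] [LocallyOfFiniteType X.hom]
    (a b : W ⟶ X) (s : S)
    (h : ∀ w : W.left, W.hom.base w ⤳ s → W.left.fromSpecStalk w ≫ a.left = W.left.fromSpecStalk w ≫ b.left) :
    ∃ V : S.Opens, s ∈ V ∧ (W.hom ⁻¹ᵁ V).ι ≫ a.left = (W.hom ⁻¹ᵁ V).ι ≫ b.left := by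
  let O : W.left.Opens := ⨆ O' : {O' : W.left.Opens // O'.ι ≫ a.left = O'.ι ≫ b.left}, O'.1
  have hpt : ∀ w : W.left, W.hom.base w ⤳ s → w ∈ O := fun w hw => by
    obtain ⟨O', hwO, he⟩ := H17.spread_out_unique' X.hom a.left b.left ((Over.w a).trans (Over.w b).symm) (h w hw)
    exact TopologicalSpace.Opens.mem_iSup.mpr ⟨⟨O', he⟩, hwO⟩
  let Z : TopologicalSpace.Closeds W.left := ⟨(O : Set W.left)ᶜ, O.2.isClosed_compl⟩
  let I := Scheme.IdealSheafData.vanishingIdeal Z
  let f := I.subschemeι ≫ W.hom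
  have hs : s ∉ closure (Set.range f.base) := fun hs => by
    obtain ⟨x, hx⟩ := H13Desc.exists_specializes_of_mem_closure_range f s hs
    have h1 : I.subschemeι.base x ∈ (Z : Set W.left) := by
      rw [← Scheme.IdealSheafData.coe_support_vanishingIdeal Z, ← Scheme.IdealSheafData.range_subschemeι]
      exact ⟨x, rfl⟩
    exact h1 (hpt _ hx)
  refine ⟨⟨(closure (Set.range f.base))ᶜ, isClosed_closure.isOpen_compl⟩, hs, ?_⟩
  generalize hV : (⟨(closure (Set.range f.base))ᶜ, isClosed_closure.isOpen_compl⟩ : S.Opens) = V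
  have hle : W.hom ⁻¹ᵁ V ≤ O := fun w hw => by
    by_contra hwO
    obtain ⟨x, hx⟩ : w ∈ Set.range I.subschemeι.base := by
      rw [Scheme.IdealSheafData.range_subschemeι, Scheme.IdealSheafData.coe_support_vanishingIdeal]
      exact hwO
    subst hV
    exact hw (subset_closure ⟨x, (Scheme.Hom.comp_apply _ _ _).trans (congrArg W.hom.base hx)⟩)
  have hO : O.ι ≫ a.left = O.ι ≫ b.left := by
    refine Scheme.Cover.hom_ext ((O : Scheme.{u}).openCoverOfIsOpenCover
      (fun O' : {O' : W.left.Opens // O'.ι ≫ a.left = O'.ι ≫ b.left} => O.ι ⁻¹ᵁ O'.1)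
      (eq_top_iff.mpr fun z _ => by
        obtain ⟨O', hO'⟩ := TopologicalSpace.Opens.mem_iSup.mp z.2
        exact TopologicalSpace.Opens.mem_iSup.mpr ⟨O', hO'⟩)) _ _ fun O' => ?_
    change (O.ι ⁻¹ᵁ O'.1).ι ≫ O.ι ≫ a.left = (O.ι ⁻¹ᵁ O'.1).ι ≫ O.ι ≫ b.left
    have e : (O.ι ⁻¹ᵁ O'.1).ι ≫ O.ι = O.ι.resLE O'.1 (O.ι ⁻¹ᵁ O'.1) le_rfl ≫ O'.1.ι :=
      (Scheme.Hom.resLE_comp_ι _ _).symm
    rw [reassoc_of% e, reassoc_of% e, O'.2]
  rw [← W.left.homOfLE_ι hle, Category.assoc, Category.assoc, hO]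

variable {H G : Over S} [GrpObj H] [GrpObj G] (u : H ⟶ G)

omit [GrpObj H] in
theorem CentralAt.of_eq {T : Scheme.{u}} {z z' : T ⟶ S} (h : CentralAt u z) (e : z = z') : CentralAt u z' := e ▸ h

omit [GrpObj H] in
theorem centralAt_residue_of {T : Scheme.{u}} (z : T ⟶ S)
    (h : ∀ (X : Over T) (g : X ⟶ Red.bc z G) (x : X ⟶ Red.bc z H),
      g * (x ≫ (Over.pullback z).map u) = (x ≫ (Over.pullback z).map u) * g) : CentralAt u z := by
  intro X p hp g x
  let Xp : Over T := Over.mk p
  let c : X ⟶ (Over.map z).obj Xp := Over.homMk (𝟙 _) (by simp [Xp, hp])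
  let c' : (Over.map z).obj Xp ⟶ X := Over.homMk (𝟙 _) (by simp [Xp, hp])
  have hc : c ≫ c' = 𝟙 X := Over.OverMorphism.ext (Category.id_comp _)
  have h1 := h Xp (bcEquiv z G Xp (c' ≫ g)) (bcEquiv z H Xp (c' ≫ x))
  have h2 : bcEquiv z H Xp (c' ≫ x) ≫ (Over.pullback z).map u = bcEquiv z G Xp (c' ≫ x ≫ u) := by
    refine ((Over.mapPullbackAdj z).homEquiv_naturality_right _ u).symm.trans ?_
    exact congrArg _ (Category.assoc _ _ _)
  rw [h2, ← bcEquiv_mul, ← bcEquiv_mul] at h1
  have h3 := congrArg (c ≫ ·) ((bcEquiv z G Xp).injective h1)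
  simpa only [MonObj.comp_mul, ← Category.assoc, hc, Category.id_comp] using h3

omit [GrpObj H] in
theorem centralAt_residue_iff {T : Scheme.{u}} {z : T ⟶ S} (h : CentralAt u z) (X : Over T) (g : X ⟶ Red.bc z G)
    (x : X ⟶ Red.bc z H) : g * (x ≫ (Over.pullback z).map u) = (x ≫ (Over.pullback z).map u) * g := by
  refine (bcEquiv z G X).symm.injective ?_
  have h2 : (bcEquiv z G X).symm (x ≫ (Over.pullback z).map u) = (bcEquiv z H X).symm x ≫ u :=
    (Over.mapPullbackAdj z).homEquiv_naturality_right_symm x u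
  rw [bcEquiv_symm_mul, bcEquiv_symm_mul, h2]
  exact h ((Over.map z).obj X) X.hom rfl _ _

variable [IsMonHom u] [LocallyOfFiniteType G.hom]

theorem centralAt_of_specializes (hH : SGA3x.IsMultTypeFT H) (hconn : ∀ t : S, ConnectedSpace (G.hom.fiber t))
    {s t : S} (hts : t ⤳ s) (hs : CentralAt u (S.fromSpecResidueField s)) :
    CentralAt u (S.fromSpecResidueField t) := by
  obtain ⟨S', f, hf, hsur, -, hloc⟩ := hH
  obtain ⟨s', rfl⟩ := hsur.surj s
  obtain ⟨U', hsU, M, _, hfg, ⟨e⟩⟩ := hloc s'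
  haveI : Module.Finite ℤ M := Module.Finite.iff_addGroup_fg.mpr hfg
  let U : Scheme.{u} := U'
  let u₀ : U ⟶ S := U'.ι ≫ f
  haveI : Flat u₀ := inferInstance
  let x₀ : U := ⟨s', hsU⟩
  let R := U.presheaf.stalk x₀
  let y : Spec (CommRingCat.of R) ⟶ U := U.fromSpecStalk x₀
  let m := IsLocalRing.maximalIdeal R
  letI : Field (R ⧸ m) := Ideal.Quotient.field m
  have htriv : Triv e (conjAct u) y m := by
    refine triv_of_centralAt u e y m ?_
    let z : Spec (CommRingCat.of (R ⧸ m)) ⟶ S := Spec.map (CommRingCat.ofHom (Ideal.Quotient.mk m)) ≫ y ≫ u₀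
    have hz : z (IsLocalRing.closedPoint (R ⧸ m)) = f s' := by
      simp only [z, Scheme.Hom.comp_apply]
      have h1 : (Spec.map (CommRingCat.ofHom (Ideal.Quotient.mk m))).base (IsLocalRing.closedPoint (R ⧸ m)) =
          IsLocalRing.closedPoint R := PrimeSpectrum.ext (by
        change (IsLocalRing.maximalIdeal (R ⧸ m)).comap (Ideal.Quotient.mk m) = m
        rw [IsLocalRing.maximalIdeal_eq_bot, ← RingHom.ker_eq_comap_bot, Ideal.mk_ker])
      rw [h1]
      exact congrArg u₀.base Scheme.fromSpecStalk_closedPoint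
    have h0 : CentralAt u (S.fromSpecResidueField (z (IsLocalRing.closedPoint (R ⧸ m)))) := by rw [hz]; exact hs
    exact (h0.comp u (Spec.map (Scheme.descResidueField (Scheme.stalkClosedPointTo z)))).of_eq u
      (Scheme.descResidueField_stalkClosedPointTo_fromSpecResidueField _ _ _)
  obtain ⟨x₁, hx₁, hx₁t⟩ := Flat.generalizingMap u₀ (show t ⤳ u₀ x₀ from hts)
  obtain ⟨q, hq⟩ : x₁ ∈ Set.range y.base := by
    rw [show Set.range y.base = Set.range (U.fromSpecStalk x₀) from rfl, Scheme.range_fromSpecStalk]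
    exact hx₁
  let qq : PrimeSpectrum R := q
  let K := qq.asIdeal.ResidueField
  let g : R →+* K := algebraMap R K
  have hker : RingHom.ker g = qq.asIdeal := Ideal.ker_algebraMap_residueField _
  have hgen := centralAt_generization u e hconn y m htriv g
    (hker.le.trans (IsLocalRing.le_maximalIdeal qq.isPrime.ne_top))
  let z : Spec (CommRingCat.of K) ⟶ S := (Spec.map (CommRingCat.ofHom g) ≫ y) ≫ u₀
  have hz : z (IsLocalRing.closedPoint K) = t := by
    simp only [z, Scheme.Hom.comp_apply]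
    have h1 : (Spec.map (CommRingCat.ofHom g)).base (IsLocalRing.closedPoint K) = q := PrimeSpectrum.ext (by
      change (IsLocalRing.maximalIdeal K).comap g = qq.asIdeal
      rw [IsLocalRing.maximalIdeal_eq_bot, ← RingHom.ker_eq_comap_bot, hker])
    rw [h1, hq]
    exact hx₁t
  subst hz
  let d := Scheme.descResidueField (Scheme.stalkClosedPointTo z)
  have : Surjective (Spec.map d) := ⟨fun p => ⟨(default : PrimeSpectrum K), Subsingleton.elim
    (α := PrimeSpectrum (S.residueField (z (IsLocalRing.closedPoint K)))) _ _⟩⟩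
  have : Flat (Spec.map d) := by
    rw [HasRingHomProperty.Spec_iff (P := @Flat)]
    letI := d.hom.toAlgebra
    exact RingHom.flat_algebraMap_iff.mpr inferInstance
  exact CentralAt.of_cover u (Spec.map d) (hgen.of_eq u
    (Scheme.descResidueField_stalkClosedPointTo_fromSpecResidueField _ _ _).symm)

theorem centralAt_fromSpecStalk (hH : SGA3x.IsMultTypeFT H) (hconn : ∀ t : S, ConnectedSpace (G.hom.fiber t))
    {s : S} (hs : CentralAt u (S.fromSpecResidueField s)) : CentralAt u (S.fromSpecStalk s) := by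
  let σ := S.fromSpecStalk s
  let u' : Red.bc σ H ⟶ Red.bc σ G := (Over.pullback σ).map u
  haveI : IsMonHom u' := H21Diag.isMonHom_of_mul _ fun a b => MonObj.mul_comp _ _ _
  haveI : LocallyOfFiniteType (Red.bc σ G).hom := inferInstanceAs (LocallyOfFiniteType (pullback.snd G.hom σ))
  obtain ⟨S', f, hf, hsur, -, hloc⟩ := H21Diag.isMultTypeFT_bc hH σ
  refine centralAt_residue_of u σ fun X g x => ?_
  have key := action_trivial_of_fibres (a := conjAct u') f
    (fun s' => by obtain ⟨U, hU, M, i, -, he⟩ := hloc s'; exact ⟨U, hU, M, i, he⟩)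
    (fun w Y p hp g' x' => by
      rw [lift_conjAct, mul_inv_eq_iff_eq_mul]
      have hw : σ w ⤳ s := by
        have : σ w ∈ Set.range (S.fromSpecStalk s) := ⟨w, rfl⟩
        rwa [Scheme.range_fromSpecStalk] at this
      let z : Spec (CommRingCat.of ((Spec (S.presheaf.stalk s)).residueField w)) ⟶ S :=
        (Spec (S.presheaf.stalk s)).fromSpecResidueField w ≫ σ
      have hz : z (IsLocalRing.closedPoint _) = σ w := by
        simp only [z, Scheme.Hom.comp_apply]
        exact congrArg σ.base (Scheme.fromSpecResidueField_apply _ _)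
      have h0 : CentralAt u (S.fromSpecResidueField (z (IsLocalRing.closedPoint _))) := by
        rw [hz]; exact centralAt_of_specializes u hH hconn hw hs
      have h1 : CentralAt u z :=
        (h0.comp u (Spec.map (Scheme.descResidueField (Scheme.stalkClosedPointTo z)))).of_eq u
          (Scheme.descResidueField_stalkClosedPointTo_fromSpecResidueField _ _ _)
      refine ((bcEquiv σ G Y).symm.injective ?_).symm
      have h2 : (bcEquiv σ G Y).symm (g' ≫ u') = (bcEquiv σ H Y).symm g' ≫ u :=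
        (Over.mapPullbackAdj σ).homEquiv_naturality_right_symm g' u
      rw [bcEquiv_symm_mul, bcEquiv_symm_mul, h2]
      exact h1 ((Over.map σ).obj Y) p (by rw [← Category.assoc, hp]; rfl) _ _) X x g
  rw [lift_conjAct] at key
  exact (mul_inv_eq_iff_eq_mul.mp key).symm

theorem exists_nhd_centralAt [QuasiCompact G.hom] (hH : SGA3x.IsMultTypeFT H)
    (hconn : ∀ t : S, ConnectedSpace (G.hom.fiber t)) {s : S} (hs : CentralAt u (S.fromSpecResidueField s)) :
    ∃ V : S.Opens, s ∈ V ∧ CentralAt u V.ι := by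
  haveI := H21Diag.isAffineHom_of_multTypeFT hH
  let W : Over S := G ⊗ H
  haveI : QuasiCompact W.hom := inferInstanceAs (QuasiCompact (pullback.fst G.hom H.hom ≫ G.hom))
  let a : W ⟶ G := fst G H * (snd G H ≫ u)
  let b : W ⟶ G := (snd G H ≫ u) * fst G H
  have hσ := centralAt_fromSpecStalk u hH hconn hs
  obtain ⟨V, hsV, hV⟩ := exists_nhd_comp_eq_of_stalk a b s fun w hw => by
    let Xw : Over S := Over.mk (W.left.fromSpecStalk w ≫ W.hom)
    let ιw : Xw ⟶ W := Over.homMk (W.left.fromSpecStalk w) rfl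
    have h1 := hσ Xw (Spec.map (S.presheaf.stalkSpecializes hw ≫ W.hom.stalkMap w)) (by
      rw [Spec.map_comp, Category.assoc, Scheme.SpecMap_stalkSpecializes_fromSpecStalk,
        Scheme.SpecMap_stalkMap_fromSpecStalk]; rfl) (ιw ≫ fst G H) (ιw ≫ snd G H)
    rw [Category.assoc, ← MonObj.comp_mul, ← MonObj.comp_mul] at h1
    exact congrArg CommaMorphism.left h1
  refine ⟨V, hsV, fun X p hp g x => ?_⟩
  let t : X ⟶ W := lift g x
  have hr : Set.range t.left.base ⊆ Set.range (W.hom ⁻¹ᵁ V).ι.base := by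
    rintro _ ⟨z, rfl⟩
    rw [Scheme.Opens.range_ι]
    change W.hom.base (t.left.base z) ∈ V
    rw [← Scheme.Hom.comp_apply, Over.w t, ← hp, Scheme.Hom.comp_apply]
    exact (p.base z).2
  have h1 : t.left ≫ a.left = t.left ≫ b.left := by
    rw [← IsOpenImmersion.lift_fac (W.hom ⁻¹ᵁ V).ι t.left hr, Category.assoc, Category.assoc, hV]
  have h2 : t ≫ a = t ≫ b := Over.OverMorphism.ext h1
  simpa [t, a, b, MonObj.comp_mul] using h2

end Groth.Agent.H21Fix
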