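import Groth.Agent.H21Fix.MultTypeSmooth
import Groth.Agent.H21Dyn.CentralizerField
import Groth.Agent.H21Diag.Invariants

/-!
Fixed points of tori acting on connected affine groups by automorphisms are connected.
-/

set_option autoImplicit false
set_option linter.style.haveILetI false
set_option backward.isDefEq.respectTransparency false
set_option maxHeartbeats 1000000
set_option synthInstance.maxHeartbeats 400000

universe u

open CategoryTheory CategoryTheory.Limits MonoidalCategory CartesianMonoidalCategory MonObj GrpObj AlgebraicGeometry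
open Groth.Agent.H21Diag

namespace Groth.Agent.H21Fix

variable {S : Scheme.{u}} {G H : Over S} [GrpObj G] [GrpObj H]

/-- the semidirect product on the product scheme -/
theorem exists_semi_prod (a : AlgGrp.Action H G)
    (hmul : ∀ (X : Over S) (h : X ⟶ H) (g g' : X ⟶ G),
      lift h (g * g') ≫ a.act = (lift h g ≫ a.act) * (lift h g' ≫ a.act)) :
    ∃ (_ : GrpObj (semiObj a)) (inl : G ⟶ semiObj a) (inr : H ⟶ semiObj a),
      IsMonHom inl ∧ IsMonHom inr ∧
      (∀ (X : Over S) (p : X ⟶ semiObj a), p = ((p ≫ fst G H) ≫ inl) * ((p ≫ snd G H) ≫ inr)) ∧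
      ∀ (X : Over S) (g : X ⟶ G) (h : X ⟶ H),
        (g ≫ inl) * (h ≫ inr) = (h ≫ inr) * (g ≫ inl) ↔ lift h g ≫ a.act = g := by
  let : GrpObj (semiObj a) := GrpObj.ofRepresentableBy _ (semiFunctor a hmul) (semiRep a hmul)
  have hE : ∀ {X : Over S} (z w : X ⟶ semiObj a),
      semiEquiv a hmul X (z * w) = semiEquiv a hmul X z * semiEquiv a hmul X w := fun {X} z w => by
    let m : (semiObj a ⊗ semiObj a ⟶ G) ⋊[pointAut a hmul _] (semiObj a ⊗ semiObj a ⟶ H) :=
      semiEquiv a hmul _ (fst _ _) * semiEquiv a hmul _ (snd _ _)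
    have h1 : z * w = lift z w ≫ (semiEquiv a hmul _).symm m := by rw [Hom.mul_def]; rfl
    have hc : ∀ (q : semiObj a ⊗ semiObj a ⟶ semiObj a), semiEquiv a hmul X (lift z w ≫ q) =
        ((semiFunctor a hmul).map (lift z w).op).hom (semiEquiv a hmul _ q) := fun q =>
      SemidirectProduct.ext (Category.assoc _ _ _) (Category.assoc _ _ _)
    rw [h1, hc, Equiv.apply_symm_apply]
    change ((semiFunctor a hmul).map (lift z w).op).hom (semiEquiv a hmul _ (fst _ _) * semiEquiv a hmul _ (snd _ _)) = _
    refine (map_mul ((semiFunctor a hmul).map (lift z w).op).hom _ _).trans ?_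
    rw [← hc, ← hc, lift_fst, lift_snd]
  let inl : G ⟶ semiObj a := lift (𝟙 G) 1
  let inr : H ⟶ semiObj a := lift 1 (𝟙 H)
  have hl : ∀ {X : Over S} (g : X ⟶ G), semiEquiv a hmul X (g ≫ inl) = SemidirectProduct.inl g := fun {X} g => by
    refine SemidirectProduct.ext ?_ ?_
    · change (g ≫ lift (𝟙 G) (1 : G ⟶ H)) ≫ fst G H = g
      rw [Category.assoc, lift_fst, Category.comp_id]
    · change (g ≫ lift (𝟙 G) (1 : G ⟶ H)) ≫ snd G H = 1
      rw [Category.assoc, lift_snd, MonObj.comp_one]
  have hr : ∀ {X : Over S} (h : X ⟶ H), semiEquiv a hmul X (h ≫ inr) = SemidirectProduct.inr h := fun {X} h => by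
    refine SemidirectProduct.ext ?_ ?_
    · change (h ≫ lift (1 : H ⟶ G) (𝟙 H)) ≫ fst G H = 1
      rw [Category.assoc, lift_fst, MonObj.comp_one]
    · change (h ≫ lift (1 : H ⟶ G) (𝟙 H)) ≫ snd G H = h
      rw [Category.assoc, lift_snd, Category.comp_id]
  refine ⟨this, inl, inr, ?_, ?_, ?_, ?_⟩
  · exact isMonHom_of_mul inl fun x y => (semiEquiv a hmul _).injective (by rw [hE, hl, hl, hl, map_mul])
  · exact isMonHom_of_mul inr fun x y => (semiEquiv a hmul _).injective (by rw [hE, hr, hr, hr, map_mul])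
  · refine fun X p => (semiEquiv a hmul _).injective ?_
    rw [hE, hl, hr]
    exact (SemidirectProduct.inl_left_mul_inr_right _).symm
  · intro X g h
    rw [← (semiEquiv a hmul X).apply_eq_iff_eq, hE, hE, hl, hr, SemidirectProduct.ext_iff]
    simp only [SemidirectProduct.mul_left, SemidirectProduct.left_inl, SemidirectProduct.left_inr,
      SemidirectProduct.right_inl, SemidirectProduct.right_inr, SemidirectProduct.mul_right, map_one,
      _root_.mul_one, _root_.one_mul, and_true]
    exact eq_comm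


theorem mul_bc (a : AlgGrp.Action H G)
    (hmul : ∀ (X : Over S) (h : X ⟶ H) (g g' : X ⟶ G),
      lift h (g * g') ≫ a.act = (lift h g ≫ a.act) * (lift h g' ≫ a.act))
    {S' : Scheme.{u}} (v : S' ⟶ S) (X : Over S') (h : X ⟶ Red.bc v H) (g g' : X ⟶ Red.bc v G) :
    lift h (g * g') ≫ (a.bc v).act = (lift h g ≫ (a.bc v).act) * (lift h g' ≫ (a.bc v).act) := by
  let he := fun (P : Over S') (Z : Over S) => (Over.mapPullbackAdj v).homEquiv P Z
  obtain ⟨h, rfl⟩ := (he X H).surjective h
  obtain ⟨g, rfl⟩ := (he X G).surjective g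
  obtain ⟨g', rfl⟩ := (he X G).surjective g'
  rw [← AlgGrp.Action.homEquiv_mul, AlgGrp.Action.lift_homEquiv_bc_act, AlgGrp.Action.lift_homEquiv_bc_act,
    AlgGrp.Action.lift_homEquiv_bc_act, ← AlgGrp.Action.homEquiv_mul, hmul]

variable {k : Type u} [Field k]

/-- the fixed points of a split torus acting by automorphisms on a connected affine group are connected -/
theorem connectedSpace_fixed_split [IsAlgClosed k] {G Q : Over (Spec (CommRingCat.of k))} [GrpObj G] [GrpObj Q]
    [IsAffine G.left] [LocallyOfFiniteType G.hom] [ConnectedSpace G.left] {n : ℕ}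
    (eQ : (Spec (CommRingCat.of (H21Dyn.Lat k n))).asOver (Spec (CommRingCat.of k)) ≅ Q) [IsMonHom eQ.hom]
    (a : AlgGrp.Action Q G)
    (hmul : ∀ (X : Over (Spec (CommRingCat.of k))) (h : X ⟶ Q) (g g' : X ⟶ G),
      lift h (g * g') ≫ a.act = (lift h g ≫ a.act) * (lift h g' ≫ a.act))
    (Z : Over (Spec (CommRingCat.of k))) (z : Z ⟶ G) [IsClosedImmersion z.left]
    (hZ : IsFixedLocusOver a z) : ConnectedSpace Z.left := by
  obtain ⟨_, inl, inr, hl, hr, hdec, hconj⟩ := exists_semi_prod a hmul
  haveI := hl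
  haveI := hr
  have hcomm : ∀ {X : Over (Spec (CommRingCat.of k))} (p q : X ⟶ Q), p * q = q * p := fun {X} p q => by
    have h : (p ≫ eQ.inv) * (q ≫ eQ.inv) = (q ≫ eQ.inv) * (p ≫ eQ.inv) := mul_comm _ _
    have h' := congrArg (· ≫ eQ.hom) h
    simpa [MonObj.mul_comp] using h'
  haveI : IsAffine Q.left :=
    @IsAffine.of_isIso _ _ ((Over.forget _).mapIso eQ).inv inferInstance (inferInstanceAs (IsAffine (Spec _)))
  haveI : LocallyOfFiniteType Q.hom := by
    rw [← Over.w eQ.inv]
    haveI : IsIso eQ.inv.left := ((Over.forget _).mapIso eQ).isIso_inv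
    haveI : LocallyOfFiniteType ((Spec (CommRingCat.of (H21Dyn.Lat k n))).asOver (Spec (CommRingCat.of k))).hom := by
      show LocallyOfFiniteType (Spec.map _)
      rw [HasRingHomProperty.Spec_iff (P := @LocallyOfFiniteType)]
      exact RingHom.finiteType_algebraMap.2 (inferInstance : Algebra.FiniteType k (H21Dyn.Lat k n))
    infer_instance
  haveI : IsAffine (semiObj a).left := inferInstanceAs (IsAffine (pullback G.hom Q.hom))
  haveI : LocallyOfFiniteType (semiObj a).hom :=
    inferInstanceAs (LocallyOfFiniteType (pullback.fst G.hom Q.hom ≫ G.hom))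
  haveI : ConnectedSpace Q.left := by
    haveI : IrreducibleSpace (PrimeSpectrum (H21Dyn.Lat k n)) := inferInstance
    haveI : ConnectedSpace ↥((Over.forget (Spec (CommRingCat.of k))).obj
        ((Spec (CommRingCat.of (H21Dyn.Lat k n))).asOver (Spec (CommRingCat.of k)))) :=
      inferInstanceAs (ConnectedSpace (PrimeSpectrum (H21Dyn.Lat k n)))
    exact (Scheme.homeoOfIso ((Over.forget _).mapIso eQ)).surjective.connectedSpace
      (Scheme.homeoOfIso ((Over.forget _).mapIso eQ)).continuous
  haveI : ConnectedSpace (semiObj a).left := by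
    haveI := H19Grp.geometricallyIrreducible_of_connectedSpace_group Q
    haveI := H19Grp.geometricallyIrreducible_of_connectedSpace_group G
    haveI : GeometricallyIrreducible (pullback.fst G.hom Q.hom) := inferInstance
    haveI : IrreducibleSpace G.left :=
      @GeometricallyIrreducible.irreducibleSpace_of_subsingleton _ _ G.hom inferInstance
        (inferInstanceAs (Subsingleton (PrimeSpectrum k))) (inferInstanceAs (Nonempty (PrimeSpectrum k)))
    haveI : IrreducibleSpace ↥(pullback G.hom Q.hom) := GeometricallyIrreducible.irreducibleSpace (pullback.fst G.hom Q.hom)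
      (pullback.fst G.hom Q.hom).isOpenMap
    exact inferInstanceAs (ConnectedSpace ↥(pullback G.hom Q.hom))
  let c : Z ⊗ Q ⟶ semiObj a := lift (fst Z Q ≫ z) (snd Z Q)
  haveI : Mono z := (Over.forget _).mono_of_mono_map (show Mono z.left from inferInstance)
  haveI : Mono c := ⟨fun {X} u w h => by
    have h1 := congrArg (· ≫ fst G Q) h
    have h2 := congrArg (· ≫ snd G Q) h
    simp only [c, Category.assoc] at h1 h2
    erw [lift_fst] at h1
    erw [lift_snd] at h2
    exact CartesianMonoidalCategory.hom_ext _ _ ((cancel_mono z).mp (by simpa [Category.assoc] using h1)) h2⟩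
  have hC : ∀ (X : Over (Spec (CommRingCat.of k))) (p : X ⟶ semiObj a), (∃ w : X ⟶ Z ⊗ Q, w ≫ c = p) ↔
      ∀ (X' : Over (Spec (CommRingCat.of k))) (x : X' ⟶ X) (q : X' ⟶ Q),
        (x ≫ p) * (q ≫ inr) = (q ≫ inr) * (x ≫ p) := by
    intro X p
    have key : ∀ {X' : Over (Spec (CommRingCat.of k))} (x : X' ⟶ X) (q : X' ⟶ Q),
        (x ≫ p) * (q ≫ inr) = (q ≫ inr) * (x ≫ p) ↔ lift q (x ≫ p ≫ fst G Q) ≫ a.act = x ≫ p ≫ fst G Q := by
      intro X' x q
      rw [hdec X' (x ≫ p), ← hconj X' (x ≫ p ≫ fst G Q) q]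
      have e1 : ((x ≫ p) ≫ snd G Q) ≫ inr * q ≫ inr = q ≫ inr * ((x ≫ p) ≫ snd G Q) ≫ inr := by
        rw [← MonObj.mul_comp, ← MonObj.mul_comp, hcomm]
      simp only [Category.assoc] at e1 ⊢
      rw [_root_.mul_assoc, e1, ← _root_.mul_assoc, ← _root_.mul_assoc, mul_left_inj]
    constructor
    · rintro ⟨w, rfl⟩ X' x q
      rw [key]
      refine (hZ X _).mp ⟨w ≫ fst Z Q, ?_⟩ X' x q
      simp only [c, Category.assoc]
      erw [lift_fst]
    · intro h
      obtain ⟨w, hw⟩ := (hZ X (p ≫ fst G Q)).mpr fun X' x q => (key x q).mp (h X' x q)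
      refine ⟨lift w (p ≫ snd G Q), ?_⟩
      refine CartesianMonoidalCategory.hom_ext _ _ ?_ ?_
      · simp only [c, Category.assoc]
        erw [lift_fst]
        rw [lift_fst_assoc, hw]
      · simp only [c, Category.assoc]
        erw [lift_snd]
        rw [lift_snd]
  haveI := H21Dyn.connectedSpace_centralizer_split (semiObj a) Q eQ ‹_› inr (Z ⊗ Q) c hC
  refine Function.Surjective.connectedSpace (f := fun p => (fst Z Q).left p) (fun p => ?_) (fst Z Q).left.continuous
  refine ⟨(lift (𝟙 Z) (1 : Z ⟶ Q)).left p, ?_⟩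
  exact congrArg (fun m : Z ⟶ Z => m.left p) (lift_fst (𝟙 Z) (1 : Z ⟶ Q))



/-- fibres of the fixed points of a torus acting by automorphisms are connected -/
theorem isConnected_fibre_fixed {S : Scheme.{u}} {Q H : Over S} [GrpObj Q] [GrpObj H] (hQ : Red.IsTorus Q)
    [IsAffineHom H.hom] [LocallyOfFiniteType H.hom] (a : AlgGrp.Action Q H)
    (hmul : ∀ (X : Over S) (q : X ⟶ Q) (h h' : X ⟶ H),
      lift q (h * h') ≫ a.act = (lift q h ≫ a.act) * (lift q h' ≫ a.act))
    {F : Over S} (f : F ⟶ H) [IsClosedImmersion f.left] (hF : IsFixedLocusOver a f) (s : S)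
    (hconn : _root_.IsConnected (H.hom.base ⁻¹' {s})) : _root_.IsConnected (F.hom.base ⁻¹' {s}) := by
  let K := AlgebraicClosure (S.residueField s)
  let v₀ := S.fromSpecResidueField s
  let w := Spec.map (CommRingCat.ofHom (algebraMap (S.residueField s) K))
  let v := w ≫ v₀
  haveI : Surjective w := ⟨fun _ => ⟨IsLocalRing.closedPoint K, Subsingleton.elim (α := PrimeSpectrum (S.residueField s)) _ _⟩⟩
  have hrange : Set.range v = {s} := by
    rw [Scheme.Hom.comp_base, TopCat.coe_comp, Set.range_comp, (‹Surjective w›).surj.range_eq, Set.image_univ]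
    exact S.range_fromSpecResidueField s
  haveI : IsAffineHom (pullback.snd H.hom v) := MorphismProperty.pullback_snd _ _ ‹_›
  haveI : IsAffine (Red.bc v H).left := isAffine_of_isAffineHom (pullback.snd H.hom v)
  haveI : LocallyOfFiniteType (Red.bc v H).hom := inferInstanceAs (LocallyOfFiniteType (pullback.snd H.hom v))
  haveI : ConnectedSpace (Red.bc v H).left := by
    haveI : ConnectedSpace ↥(H.hom.fiber s) := by
      rw [(H.hom.fiberHomeo s).connectedSpace_iff]
      exact isConnected_iff_connectedSpace.mp hconn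
    haveI : ConnectedSpace ↥(Red.bc v₀ H).left := ‹ConnectedSpace ↥(H.hom.fiber s)›
    haveI : LocallyOfFiniteType (Red.bc v₀ H).hom := inferInstanceAs (LocallyOfFiniteType (pullback.snd H.hom v₀))
    haveI := H19Grp.geometricallyIrreducible_of_connectedSpace_group (Red.bc v₀ H)
    have hgi : GeometricallyIrreducible (Red.bc v H).hom := by
      show GeometricallyIrreducible (pullback.snd H.hom (w ≫ v₀))
      rw [← pullbackLeftPullbackSndIso_inv_snd_snd H.hom v₀ w,
        MorphismProperty.cancel_left_of_respectsIso (P := @GeometricallyIrreducible)]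
      exact MorphismProperty.pullback_snd _ _ (inferInstanceAs (GeometricallyIrreducible (Red.bc v₀ H).hom))
    haveI : IrreducibleSpace (Red.bc v H).left :=
      @GeometricallyIrreducible.irreducibleSpace_of_subsingleton _ _ (Red.bc v H).hom hgi
        (inferInstanceAs (Subsingleton (PrimeSpectrum K))) (inferInstanceAs (Nonempty (PrimeSpectrum K)))
    infer_instance
  obtain ⟨r, L, _, _, hL⟩ := H21Dyn.exists_split_of_isTorus Q hQ v
  obtain ⟨eQ, he⟩ := H21Dyn.exists_split_algClosed_of_split (Red.bc v Q) ⟨L, inferInstance, inferInstance, hL⟩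
  haveI := he
  haveI : IsClosedImmersion ((Over.pullback v).map f).left := MorphismProperty.overPullbackMap v f ‹_›
  haveI : ConnectedSpace ↥(pullback F.hom v) := connectedSpace_fixed_split eQ (a.bc v) (mul_bc a hmul v)
    (Red.bc v F) ((Over.pullback v).map f) (isFixedLocusOver_bc hF v)
  rw [show F.hom.base ⁻¹' {s} = Set.range (pullback.fst F.hom v) by
    rw [Scheme.Pullback.range_fst, hrange]]
  exact isConnected_range (pullback.fst F.hom v).continuous

end Groth.Agent.H21Fix
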